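import Cfsg.Prelude.Def_Transfer
import Cfsg.Agent.Eq.Def_Transfer
import Cfsg.Agent.LocalP.Basic
import Cfsg.Agent.S4126
import Mathlib.Tactic.Group

/-!
Coprime actions of two commuting involutions, and the exponent `p` subgroup of class two of a
`p`-group detecting `p'`-elements.
-/

set_option autoImplicit false

open scoped commutatorElement

namespace CfsgLib.PTwoType

variable {G : Type*} [Group G]

theorem invol_inv {t : G} (ht : t * t = 1) : t⁻¹ = t := inv_eq_of_mul_eq_one_right ht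

theorem invol_conj_mem {t : G} (ht : t * t = 1) {P : Subgroup G}
    (hn : t ∈ Subgroup.normalizer (P : Set G)) {x : G} (hx : x ∈ P) : t * x * t ∈ P := by
  have := (Subgroup.mem_normalizer_iff.mp hn x).mp hx
  rwa [invol_inv ht] at this

theorem invol_conj_mul {t : G} (ht : t * t = 1) (a b : G) :
    t * (a * b) * t = (t * a * t) * (t * b * t) := by
  calc t * (a * b) * t = t * a * 1 * b * t := by group
    _ = t * a * (t * t) * b * t := by rw [ht]
    _ = (t * a * t) * (t * b * t) := by group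

theorem invol_conj_inv {t : G} (ht : t * t = 1) (a : G) : t * a⁻¹ * t = (t * a * t)⁻¹ := by
  rw [mul_inv_rev, mul_inv_rev, invol_inv ht, mul_assoc]

theorem invol_conj_conj {t : G} (ht : t * t = 1) (a : G) : t * (t * a * t) * t = a := by
  calc t * (t * a * t) * t = (t * t) * a * (t * t) := by group
    _ = a := by rw [ht]; group

theorem invol_conj_pow {t : G} (ht : t * t = 1) (a : G) (n : ℕ) :
    t * a ^ n * t = (t * a * t) ^ n := by
  induction n with
  | zero => simp [ht]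
  | succ n ih => rw [pow_succ, pow_succ, invol_conj_mul ht, ih]

theorem invol_fixed_iff {t : G} (ht : t * t = 1) (a : G) : t * a * t = a ↔ t * a = a * t := by
  constructor
  · intro h
    calc t * a = t * a * (t * t) := by rw [ht, mul_one]
      _ = (t * a * t) * t := by group
      _ = a * t := by rw [h]
  · intro h
    rw [h, mul_assoc, ht, mul_one]

variable [Finite G] {p : ℕ} [Fact p.Prime]

theorem odd_orderOf_mem (hp : p ≠ 2) {P : Subgroup G} (hP : IsPGroup p P) {x : G} (hx : x ∈ P) :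
    Odd (orderOf x) := by
  obtain ⟨k, hk⟩ := IsPGroup.iff_orderOf.mp hP ⟨x, hx⟩
  rw [Subgroup.orderOf_mk] at hk
  exact hk ▸ ((Fact.out : p.Prime).odd_of_ne_two hp).pow

omit [Finite G] in
theorem exists_sqrt {h : G} (ho : Odd (orderOf h)) : ∃ m : ℕ, h ^ m * h ^ m = h := by
  obtain ⟨k, hk⟩ := ho
  refine ⟨k + 1, ?_⟩
  rw [← pow_add, show k + 1 + (k + 1) = orderOf h + 1 by omega, pow_succ, pow_orderOf_eq_one, one_mul]

/-- An involution either fixes or inverts: the two factors of `x`. -/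
theorem exists_fixed_mul_inverted (hp : p ≠ 2) {P : Subgroup G} (hP : IsPGroup p P) {t : G}
    (ht : t * t = 1) (htP : t ∈ Subgroup.normalizer (P : Set G)) {x : G} (hx : x ∈ P) :
    ∃ f ∈ P, ∃ g ∈ P, x = f * g ∧ t * f * t = f ∧ t * g * t = g⁻¹ := by
  set h := x⁻¹ * (t * x * t) with hh
  have hhP : h ∈ P := mul_mem (inv_mem hx) (invol_conj_mem ht htP hx)
  obtain ⟨m, hm⟩ := exists_sqrt (odd_orderOf_mem hp hP hhP)
  have hth : t * h * t = h⁻¹ := by
    rw [hh, invol_conj_mul ht, invol_conj_inv ht, invol_conj_conj ht]; group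
  have htg : t * h ^ m * t = (h ^ m)⁻¹ := by rw [invol_conj_pow ht, hth, inv_pow]
  refine ⟨x * h ^ m, mul_mem hx (pow_mem hhP m), (h ^ m)⁻¹, inv_mem (pow_mem hhP m), by group, ?_, ?_⟩
  · rw [invol_conj_mul ht, htg, show t * x * t = x * h by rw [hh]; group]
    calc x * h * (h ^ m)⁻¹ = x * (h ^ m * h ^ m) * (h ^ m)⁻¹ := by rw [hm]
      _ = x * h ^ m := by group
  · rw [invol_conj_inv ht, htg]

/-- If every `t`-fixed point is `s`-fixed, the `s`-inverted points are `t`-inverted. -/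
theorem inverted_of_fixed_le (hp : p ≠ 2) {P : Subgroup G} (hP : IsPGroup p P) {t s : G}
    (ht : t * t = 1) (hs : s * s = 1) (hts : t * s = s * t)
    (htP : t ∈ Subgroup.normalizer (P : Set G)) (hfix : ∀ x ∈ P, t * x * t = x → s * x * s = x)
    {x : G} (hx : x ∈ P) (hxs : s * x * s = x⁻¹) : t * x * t = x⁻¹ := by
  obtain ⟨f, hf, g, hg, rfl, htf, htg⟩ := exists_fixed_mul_inverted hp hP ht htP hx
  have hsf := hfix f hf htf
  have hcomm : ∀ a : G, t * (s * a * s) * t = s * (t * a * t) * s := fun a => by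
    calc t * (s * a * s) * t = (t * s) * a * (s * t) := by group
      _ = (s * t) * a * (t * s) := by rw [hts]
      _ = s * (t * a * t) * s := by group
  rw [invol_conj_mul hs, hsf] at hxs
  have hsg : s * g * s = f⁻¹ * g⁻¹ * f⁻¹ := by
    calc s * g * s = f⁻¹ * (f * (s * g * s)) := by group
      _ = f⁻¹ * (f * g)⁻¹ := by rw [hxs]
      _ = f⁻¹ * g⁻¹ * f⁻¹ := by group
  have htfi : t * f⁻¹ * t = f⁻¹ := by rw [invol_conj_inv ht, htf]
  have hrev : f⁻¹ * g * f⁻¹ = f * g * f := by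
    have h := hcomm g
    rw [htg, invol_conj_inv hs, hsg, invol_conj_mul ht, invol_conj_mul ht, htfi, invol_conj_inv ht, htg,
      inv_inv, mul_inv_rev, mul_inv_rev, inv_inv, inv_inv] at h
    rw [h]
    group
  have hfg : g⁻¹ * (f * f) * g = (f * f)⁻¹ := by
    calc g⁻¹ * (f * f) * g = g⁻¹ * f * (f * g * f) * f⁻¹ := by group
      _ = g⁻¹ * f * (f⁻¹ * g * f⁻¹) * f⁻¹ := by rw [hrev]
      _ = (f * f)⁻¹ := by group
  have hcomm2 : Commute (g * g) (f * f) := by
    have h2 : (g * g)⁻¹ * (f * f) * (g * g) = f * f := by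
      calc (g * g)⁻¹ * (f * f) * (g * g) = g⁻¹ * (g⁻¹ * (f * f) * g) * g := by group
        _ = g⁻¹ * (f * f)⁻¹ * g := by rw [hfg]
        _ = (g⁻¹ * (f * f) * g)⁻¹ := by group
        _ = f * f := by rw [hfg, inv_inv]
    calc g * g * (f * f) = g * g * ((g * g)⁻¹ * (f * f) * (g * g)) := by rw [h2]
      _ = f * f * (g * g) := by group
  obtain ⟨m, hm⟩ := exists_sqrt (odd_orderOf_mem hp hP hg)
  have hgf : Commute g (f * f) := by
    rw [← hm, ← pow_add, ← two_mul, pow_mul, pow_two]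
    exact hcomm2.pow_left m
  have hf4 : (f * f) * (f * f) = 1 := by
    have : f * f = (f * f)⁻¹ := by
      rw [← hfg, mul_assoc, ← hgf.eq, inv_mul_cancel_left]
    nth_rewrite 1 [this]
    exact inv_mul_cancel _
  have hf1 : f = 1 := by
    have hd : orderOf f ∣ 2 ^ 2 := orderOf_dvd_of_pow_eq_one (by
      rw [show (2 : ℕ) ^ 2 = 2 * 2 from rfl, pow_mul, pow_two, pow_two, hf4])
    have hcop : (orderOf f).Coprime (2 ^ 2) :=
      (Nat.coprime_two_right.mpr (odd_orderOf_mem hp hP hf)).pow_right 2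
    exact orderOf_eq_one_iff.mp (Nat.eq_one_of_dvd_coprimes hcop dvd_rfl hd)
  subst hf1
  simpa using htg

omit [Finite G] [Fact p.Prime] in
theorem commute_of_inf_eq_bot {P Q : Subgroup G} (hd : Disjoint P Q) {x s : G} (hx : x ∈ P)
    (hs : s ∈ Q) (hxQ : x ∈ Subgroup.normalizer (Q : Set G))
    (hsP : s ∈ Subgroup.normalizer (P : Set G)) : x * s = s * x := by
  have h1 : x * s * x⁻¹ * s⁻¹ ∈ P := by
    rw [show x * s * x⁻¹ * s⁻¹ = x * (s * x⁻¹ * s⁻¹) by group]
    exact mul_mem hx ((Subgroup.mem_normalizer_iff.mp hsP _).mp (inv_mem hx))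
  have h2 : x * s * x⁻¹ * s⁻¹ ∈ Q :=
    mul_mem ((Subgroup.mem_normalizer_iff.mp hxQ _).mp hs) (inv_mem hs)
  have := Subgroup.disjoint_def.mp hd h1 h2
  rwa [mul_inv_eq_one, mul_inv_eq_iff_eq_mul] at this

/-- A subgroup of class two and exponent `p` detecting the `p'`-elements of the normalizer. -/
theorem exists_small (hp : p ≠ 2) {P : Subgroup G} (hP : IsPGroup p P) :
    ∃ W : Subgroup G, W ≤ P ∧ (∀ a ∈ W, ∀ b ∈ W, ∀ c ∈ W, Commute ⁅a, b⁆ c) ∧ (∀ a ∈ W, a ^ p = 1) ∧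
      Subgroup.normalizer (P : Set G) ≤ Subgroup.normalizer (W : Set G) ∧
      ∀ x ∈ Subgroup.normalizer (P : Set G), (orderOf x).Coprime p → (∀ w ∈ W, x * w = w * x) →
        ∀ y ∈ P, x * y = y * x := by
  obtain ⟨C, hC⟩ := CfsgLib.PGroup.exists_criticalSubgroup (p := p) hP
  have hq : (p ≠ 2 ∧ p = p) ∨ (p = 2 ∧ p = 4) := Or.inl ⟨hp, rfl⟩
  let Ω : Subgroup P :=
    { carrier := {c | c ∈ C ∧ c ^ p = 1}
      one_mem' := ⟨one_mem C, one_pow p⟩
      mul_mem' := fun {a b} ha hb => ⟨mul_mem ha.1 hb.1,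
        Cfsg.Agent.S4126.small_mul hC hq ha.1 hb.1 ha.2 hb.2⟩
      inv_mem' := fun {a} ha => ⟨inv_mem ha.1, by rw [inv_pow, ha.2, inv_one]⟩ }
  refine ⟨Ω.map P.subtype, Subgroup.map_subtype_le Ω, ?_, ?_, ?_, ?_⟩
  · rintro _ ⟨a, ha, rfl⟩ _ ⟨b, hb, rfl⟩ _ ⟨c, hc, rfl⟩
    have h := (Subgroup.mem_center_iff.mp (hC.class_two ⟨a, ha.1⟩ ⟨b, hb.1⟩) ⟨c, hc.1⟩)
    exact (congrArg (fun z : C => ((z : P) : G)) h).symm
  · rintro _ ⟨a, ha, rfl⟩
    exact congrArg Subtype.val ha.2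
  · have key : ∀ g ∈ Subgroup.normalizer (P : Set G), ∀ w ∈ Ω.map P.subtype,
        g * w * g⁻¹ ∈ Ω.map P.subtype := by
      rintro g hg _ ⟨w, hw, rfl⟩
      refine ⟨P.normalizerMonoidHom ⟨g, hg⟩ w, ⟨?_, by rw [← map_pow, hw.2, map_one]⟩, rfl⟩
      exact Subgroup.characteristic_iff_le_comap.mp hC.characteristic _ hw.1
    intro g hg
    refine Subgroup.mem_normalizer_iff.mpr fun w => ⟨key g hg w, fun hw => ?_⟩
    simpa [mul_assoc] using key g⁻¹ (inv_mem hg) _ hw
  · intro x hx hcop hfix y hy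
    have hσ : P.normalizerMonoidHom ⟨x, hx⟩ = 1 := by
      refine Cfsg.Agent.S4126.eq_one_of_fixes_critical hP hC hq ?_ fun c hc hcp => Subtype.ext ?_
      · exact hcop.coprime_dvd_left ((orderOf_map_dvd _ _).trans (by rw [Subgroup.orderOf_mk]))
      · show x * (c : G) * x⁻¹ = c
        rw [hfix (c : G) ⟨c, ⟨hc, hcp⟩, rfl⟩, mul_inv_cancel_right]
    have h := congrArg Subtype.val (DFunLike.congr_fun hσ (⟨y, hy⟩ : P))
    change x * y * x⁻¹ = y at h
    exact mul_inv_eq_iff_eq_mul.mp h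

end CfsgLib.PTwoType
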