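import Cfsg.Agent.PTwoType.Pure
import Cfsg.Agent.GlaubermanZJ.AxB
import Cfsg.Prelude.Def_CaseTheorems
import Cfsg.Prelude.Def_LocalEven

/-!
In a group both of characteristic two type and of local characteristic `p` (`p` odd) every two-local
subgroup has `p`-rank at most two.
-/

set_option autoImplicit false

open scoped commutatorElement

namespace CfsgLib.PTwoType

variable {G : Type*} [Group G] [Finite G] {p : ℕ} [Fact p.Prime]

omit [Finite G] [Fact p.Prime] in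
/-- `P` is a normal `q`-subgroup of `N` containing its centralizer in `N`. -/
def IsCoreIn (q : ℕ) (P N : Subgroup G) : Prop :=
  IsPGroup q P ∧ P ≤ N ∧ N ≤ Subgroup.normalizer (P : Set G) ∧
    ∀ x ∈ N, (∀ y ∈ P, x * y = y * x) → x ∈ P

omit [Finite G] [Fact p.Prime] in
theorem exists_core {q : ℕ} [Fact q.Prime] {N : Subgroup G}
    (h : Subgroup.centralizer (Cfsg.pCore q N : Set N) ≤ Cfsg.pCore q N) [Finite G] :
    ∃ P : Subgroup G, IsCoreIn q P N := by
  refine ⟨(Cfsg.pCore q N).map N.subtype, CfsgLib.LocalP.isPGroup_pCore.map _,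
    Subgroup.map_subtype_le _, fun g hg => ?_, fun x hx hxc => ?_⟩
  · refine Subgroup.le_normalizer_map _ ⟨⟨g, hg⟩, ?_, rfl⟩
    have : (Cfsg.pCore q N).Normal := Cfsg.pCore_normal q N
    rw [Subgroup.normalizer_eq_top]
    exact Subgroup.mem_top _
  · refine ⟨⟨x, hx⟩, h (Subgroup.mem_centralizer_iff.mpr fun y hy => Subtype.ext ?_), rfl⟩
    exact (hxc (y : G) ⟨y, hy, rfl⟩).symm

/-- The hypotheses on `G`, elementwise. -/
structure TwoPData (G : Type*) [Group G] (p : ℕ) : Prop where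
  two : ∀ t : G, t * t = 1 → t ≠ 1 → ∃ Q, IsCoreIn 2 Q (Subgroup.centralizer ({t} : Set G))
  odd : ∀ d : G, d ^ p = 1 → d ≠ 1 → ∃ P, IsCoreIn p P (Subgroup.normalizer (Subgroup.zpowers d : Set G))

omit [Finite G] [Fact p.Prime] in
theorem normalizer_zpowers_of_invol {t : G} (ht : t * t = 1) :
    Subgroup.normalizer (Subgroup.zpowers t : Set G) = Subgroup.centralizer ({t} : Set G) := by
  refine le_antisymm (fun g hg => ?_) fun g hg => ?_
  · refine Subgroup.mem_centralizer_singleton_iff.mpr ?_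
    have h := (Subgroup.mem_normalizer_iff.mp hg t).mp (Subgroup.mem_zpowers t)
    obtain ⟨n, hn⟩ := h
    have hn' : t ^ n = g * t * g⁻¹ := hn
    rcases Int.even_or_odd n with ⟨m, rfl⟩ | ⟨m, rfl⟩
    · have : g * t * g⁻¹ = 1 := by rw [← hn', ← two_mul, zpow_mul, zpow_two, ht, one_zpow]
      rw [conj_eq_one_iff.mp this, mul_one, one_mul]
    · rw [zpow_add, zpow_mul, zpow_two, ht, one_zpow, one_mul, zpow_one] at hn'
      exact (mul_inv_eq_iff_eq_mul.mp hn'.symm)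
  · rw [← Subgroup.centralizer_closure] at hg
    exact Subgroup.centralizer_le_normalizer _ (by rwa [Subgroup.zpowers_eq_closure])

omit [Finite G] [Fact p.Prime] in
theorem mem_normalizer_zpowers_of_commute {x d : G} (h : x * d = d * x) :
    x ∈ Subgroup.normalizer (Subgroup.zpowers d : Set G) := by
  rw [Subgroup.mem_normalizer_iff_map_conj_eq, MonoidHom.map_zpowers]
  congr 1
  show x * d * x⁻¹ = d
  rw [h, mul_inv_cancel_right]

omit [Finite G] [Fact p.Prime] in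
theorem mem_normalizer_zpowers_of_inverts {x d : G} (h : x * d * x⁻¹ = d⁻¹) :
    x ∈ Subgroup.normalizer (Subgroup.zpowers d : Set G) := by
  rw [Subgroup.mem_normalizer_iff_map_conj_eq, MonoidHom.map_zpowers]
  show Subgroup.zpowers (x * d * x⁻¹) = _
  rw [h, Subgroup.zpowers_inv]

theorem twoPData (hGp : Cfsg.IsOfLocalCharacteristic p G) (hG2 : Cfsg.IsCharacteristicTwoType G) :
    TwoPData G p := by
  have hpow : ∀ (q : ℕ) (d : G), d ^ q = 1 → IsPGroup q (Subgroup.zpowers d) := fun q d h x => by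
    obtain ⟨n, hn⟩ := x.2
    refine ⟨1, Subtype.ext ?_⟩
    rw [SubmonoidClass.coe_pow, pow_one, ← show d ^ n = (x : G) from hn, ← zpow_natCast, zpow_comm,
      zpow_natCast, h, one_zpow]
    rfl
  constructor
  · intro t ht ht1
    have h := hG2.2 (Subgroup.zpowers t) (hpow 2 t (by rw [pow_two, ht]))
      (Subgroup.zpowers_ne_bot.mpr ht1)
    obtain ⟨Q, hQ⟩ := exists_core (q := 2) h
    rw [normalizer_zpowers_of_invol ht] at hQ
    exact ⟨Q, hQ⟩
  · exact fun d hd hd1 =>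
      exists_core (hGp.2 (Subgroup.zpowers d) (hpow p d hd) (Subgroup.zpowers_ne_bot.mpr hd1))

theorem disjoint_of_primes (hp : p ≠ 2) {P Q : Subgroup G} (hP : IsPGroup p P) (hQ : IsPGroup 2 Q) :
    Disjoint P Q := by
  have : Fact (Nat.Prime 2) := ⟨Nat.prime_two⟩
  exact IsPGroup.disjoint_of_ne p 2 hp P Q hP hQ

omit [Finite G] [Fact p.Prime] in
theorem not_dvd_card_of_isPGroup [Finite G] {q r : ℕ} [Fact q.Prime] [Fact r.Prime] (hqr : q ≠ r)
    {P : Subgroup G} (hP : IsPGroup q P) : ¬ r ∣ Nat.card P := fun hd => by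
  obtain ⟨k, hk⟩ := IsPGroup.iff_card.mp hP
  exact hqr ((Nat.prime_dvd_prime_iff_eq Fact.out Fact.out).mp
    ((Fact.out : r.Prime).dvd_of_dvd_pow (hk ▸ hd))).symm

omit [Finite G] [Fact p.Prime] in
theorem orderOf_coprime_of_sq {t : G} [Fact p.Prime] (hp : p ≠ 2) (ht : t * t = 1) :
    (orderOf t).Coprime p :=
  Nat.Coprime.coprime_dvd_left (orderOf_dvd_of_pow_eq_one (by rw [pow_two, ht]))
    ((Nat.coprime_primes Nat.prime_two Fact.out).mpr hp.symm)

omit [Finite G] [Fact p.Prime] in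
theorem conj_eq_iff_invol {t : G} (ht : t * t = 1) (a : G) : t * a * t⁻¹ = t * a * t := by
  rw [invol_inv ht]

variable (hd : TwoPData G p) (hp : p ≠ 2)

include hd hp

/-- `t` centralises the elements of `O₂(C(s))` centralising an element inverted by `t`. -/
theorem commute_of_inverted {t s v : G} (ht : t * t = 1) (ht1 : t ≠ 1) (hs : s * s = 1) (hs1 : s ≠ 1)
    (hts : t * s = s * t) {Qt Qs : Subgroup G}
    (hQt : IsCoreIn 2 Qt (Subgroup.centralizer ({t} : Set G)))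
    (hQs : IsCoreIn 2 Qs (Subgroup.centralizer ({s} : Set G))) (hsQ : s ∈ Qt)
    (hv : v ^ p = 1) (hv1 : v ≠ 1) (hsv : s * v = v * s) (htv : t * v * t = v⁻¹)
    {y : G} (hy : y ∈ Qs) (hyv : y * v = v * y) : t * y = y * t := by
  obtain ⟨P, hP, hPN, hNP, hPc⟩ := hd.odd v hv hv1
  have hsN := mem_normalizer_zpowers_of_commute hsv
  have htN : t ∈ Subgroup.normalizer (Subgroup.zpowers v : Set G) :=
    mem_normalizer_zpowers_of_inverts (by rw [invol_inv ht]; exact htv)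
  have hyN := mem_normalizer_zpowers_of_commute hyv
  have hdisj := disjoint_of_primes hp hP hQt.1
  have hdisj' := disjoint_of_primes hp hP hQs.1
  have hfix : ∀ x ∈ P, t * x * t = x → s * x * s = x := fun x hx h =>
    (invol_fixed_iff hs x).mpr (commute_of_inf_eq_bot hdisj hx hsQ
      (hQt.2.2.1 (Subgroup.mem_centralizer_singleton_iff.mpr ((invol_fixed_iff ht x).mp h).symm))
      (hNP hsN)).symm
  have hys : y * s = s * y := Subgroup.mem_centralizer_singleton_iff.mp (hQs.2.1 hy)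
  have hyfix : ∀ x ∈ P, s * x = x * s → Commute y x := fun x hx h =>
    (commute_of_inf_eq_bot hdisj' hx hy
      (hQs.2.2.1 (Subgroup.mem_centralizer_singleton_iff.mpr h.symm)) (hNP hyN)).symm
  set k := y⁻¹ * (t * y * t) with hk
  have hkcomm : ∀ x ∈ P, k * x = x * k := by
    intro x hx
    obtain ⟨a, ha, b, hb, rfl, hsa, hsb⟩ := exists_fixed_mul_inverted hp hP hs (hNP hsN) hx
    have hka : Commute k a := by
      have h1 := hyfix a ha ((invol_fixed_iff hs a).mp hsa)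
      have hsa' : s * (t * a * t) * s = t * a * t := by
        calc s * (t * a * t) * s = (s * t) * a * (t * s) := by group
          _ = (t * s) * a * (s * t) := by rw [← hts]
          _ = t * (s * a * s) * t := by group
          _ = t * a * t := by rw [hsa]
      have h2 := hyfix _ (invol_conj_mem ht (hNP htN) ha) ((invol_fixed_iff hs _).mp hsa')
      have h3 : Commute (t * y * t) a := by
        show t * y * t * a = a * (t * y * t)
        calc t * y * t * a = t * y * t * a * (t * t) := by rw [ht, mul_one]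
          _ = t * (y * (t * a * t)) * t := by group
          _ = t * ((t * a * t) * y) * t := by rw [h2.eq]
          _ = (t * t) * a * (t * y * t) := by group
          _ = a * (t * y * t) := by rw [ht, one_mul]
      exact h1.inv_left.mul_left h3
    have hkb : Commute k b := by
      set b' := y * b * y⁻¹ with hb'
      have hb'P : b' ∈ P := (Subgroup.mem_normalizer_iff.mp (hNP hyN) b).mp hb
      have hsy' : s * y⁻¹ = y⁻¹ * s := (Commute.inv_left (show Commute y s from hys)).eq.symm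
      have hsb' : s * b' * s = b'⁻¹ := by
        calc s * b' * s = (s * y) * b * (y⁻¹ * s) := by rw [hb']; group
          _ = (y * s) * b * (s * y⁻¹) := by rw [hys, hsy']
          _ = y * (s * b * s) * y⁻¹ := by group
          _ = b'⁻¹ := by rw [hsb, hb']; group
      have h1 := inverted_of_fixed_le hp hP ht hs hts (hNP htN) hfix hb hsb
      have h2 := inverted_of_fixed_le hp hP ht hs hts (hNP htN) hfix hb'P hsb'
      rw [hb', invol_conj_mul ht, invol_conj_mul ht, h1, invol_conj_inv ht] at h2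
      have h3 : Commute k b⁻¹ := by
        show k * b⁻¹ = b⁻¹ * k
        calc k * b⁻¹ = y⁻¹ * ((t * y * t) * b⁻¹ * (t * y * t)⁻¹) * (t * y * t) := by rw [hk]; group
          _ = y⁻¹ * (y * b * y⁻¹)⁻¹ * (t * y * t) := by rw [h2]
          _ = b⁻¹ * k := by rw [hk]; group
      simpa using h3.inv_right
    exact (hka.mul_right hkb).eq
  have htQs : t * y * t ∈ Qs :=
    invol_conj_mem ht (hQs.2.2.1 (Subgroup.mem_centralizer_singleton_iff.mpr hts)) hy
  have hkN : k ∈ Subgroup.normalizer (Subgroup.zpowers v : Set G) :=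
    mul_mem (inv_mem hyN) (mul_mem (mul_mem htN hyN) htN)
  have hk1 := Subgroup.disjoint_def.mp hdisj' (hPc k hkN hkcomm) (mul_mem (inv_mem hy) htQs)
  exact (invol_fixed_iff ht y).mp (inv_mul_eq_one.mp hk1).symm

/-- No noncyclic abelian group in `C(s)` is inverted by `t`. -/
theorem not_inverted_pair {t s u w : G} (ht : t * t = 1) (ht1 : t ≠ 1) (hs : s * s = 1) (hs1 : s ≠ 1)
    (hts : t * s = s * t) {Qt : Subgroup G} (hQt : IsCoreIn 2 Qt (Subgroup.centralizer ({t} : Set G)))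
    (hsQ : s ∈ Qt) (hu : u ^ p = 1) (hw : w ^ p = 1) (huw : u * w = w * u) (hu1 : u ≠ 1)
    (hwu : w ∉ Subgroup.zpowers u) (hsu : s * u = u * s) (hsw : s * w = w * s)
    (htu : t * u * t = u⁻¹) (htw : t * w * t = w⁻¹) : False := by
  have : Fact (Nat.Prime 2) := ⟨Nat.prime_two⟩
  obtain ⟨Qs, hQs⟩ := hd.two s hs hs1
  set U := Subgroup.closure ({u, w} : Set G) with hU
  have hcomm : ∀ a ∈ ({u, w} : Set G), ∀ b ∈ ({u, w} : Set G), a * b = b * a := by
    rintro a (rfl | rfl) b (rfl | rfl) <;>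
      first
        | rfl
        | assumption
        | exact huw.symm
  have hUc : IsMulCommutative U := Subgroup.isMulCommutative_closure hcomm
  have hprop : ∀ a ∈ U, a ^ p = 1 ∧ s * a = a * s ∧ t * a * t = a⁻¹ := by
    intro a ha
    induction ha using Subgroup.closure_induction with
    | mem a ha => rcases ha with rfl | rfl <;> exact ⟨‹_›, ‹_›, ‹_›⟩
    | one => exact ⟨one_pow p, by simp, by simp [ht]⟩
    | mul a b ha hb iha ihb =>
      have hab : Commute a b := congrArg Subtype.val (mul_comm' (⟨a, ha⟩ : U) ⟨b, hb⟩)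
      refine ⟨by rw [hab.mul_pow, iha.1, ihb.1, one_mul],
        ((show Commute s a from iha.2.1).mul_right ihb.2.1).eq, ?_⟩
      rw [invol_conj_mul ht, iha.2.2, ihb.2.2, ← mul_inv_rev, hab.eq]
    | inv a _ iha =>
      exact ⟨by rw [inv_pow, iha.1, inv_one], (show Commute s a from iha.2.1).inv_right.eq,
        by rw [invol_conj_inv ht, iha.2.2]⟩
  have huU : u ∈ U := Subgroup.subset_closure (by simp)
  have hwU : w ∈ U := Subgroup.subset_closure (by simp)
  have hUQ : U ≤ Subgroup.normalizer (Qs : Set G) := fun a ha =>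
    hQs.2.2.1 (Subgroup.mem_centralizer_singleton_iff.mpr (hprop a ha).2.1.symm)
  have hQle : Qs ≤ Subgroup.centralizer ({t} : Set G) := by
    refine (CfsgLib.Hyperplane.le_iSup_centralizer ⟨hUc, fun a ha => (hprop a ha).1⟩
      (not_dvd_card_of_isPGroup hp.symm hQs.1) hUQ).trans (iSup_le ?_)
    rintro ⟨H, hH, hr⟩ y ⟨hyQ, hyH⟩
    have hHne : H ≠ ⊥ := by
      rintro rfl
      rw [Subgroup.relIndex_bot_left] at hr
      have hlt : Subgroup.zpowers u < U :=
        lt_of_le_not_ge (Subgroup.zpowers_le_of_mem huU) fun h => hwu (h hwU)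
      have h1 : Nat.card (Subgroup.zpowers u) = p := by rw [Nat.card_zpowers, orderOf_eq_prime hu hu1]
      have h2 := two_mul_card_le hlt
      have h3 := Nat.le_of_dvd (Fact.out : p.Prime).pos hr
      have := (Fact.out : p.Prime).two_le
      omega
    obtain ⟨⟨v, hv⟩, hv1⟩ := Subgroup.ne_bot_iff_exists_ne_one.mp hHne
    have hv1' : v ≠ 1 := fun h => hv1 (Subtype.ext h)
    exact Subgroup.mem_centralizer_singleton_iff.mpr (commute_of_inverted hd hp ht ht1 hs hs1 hts hQt hQs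
      hsQ (hprop v (hH hv)).1 hv1' (hprop v (hH hv)).2.1 (hprop v (hH hv)).2.2 hyQ
      (Subgroup.mem_centralizer_iff.mp hyH v hv).symm).symm
  have htQ : t ∈ Qs := hQs.2.2.2 t (Subgroup.mem_centralizer_singleton_iff.mpr hts)
    fun y hy => (Subgroup.mem_centralizer_singleton_iff.mp (hQle hy)).symm
  have h1 : u * u ∈ Qs := by
    have h := mul_mem ((Subgroup.mem_normalizer_iff.mp (hUQ huU) t).mp htQ) htQ
    have e : u * t * u⁻¹ * t = u * u := by
      rw [show u * t * u⁻¹ * t = u * (t * u⁻¹ * t) by group, invol_conj_inv ht, htu, inv_inv]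
    rwa [e] at h
  have hPu : IsPGroup p (Subgroup.zpowers u) :=
    IsPGroup.of_card (n := 1) (by rw [Nat.card_zpowers, orderOf_eq_prime hu hu1, pow_one])
  have h2 := Subgroup.disjoint_def.mp (disjoint_of_primes hp hPu hQs.1)
    (mul_mem (Subgroup.mem_zpowers u) (Subgroup.mem_zpowers u)) h1
  refine hu1 (orderOf_eq_one_iff.mp (Nat.eq_one_of_dvd_coprimes ?_ (orderOf_dvd_of_pow_eq_one hu)
    (orderOf_dvd_of_pow_eq_one (show u ^ 2 = 1 by rw [pow_two, h2]))))
  exact (Nat.coprime_primes (Fact.out : p.Prime) Nat.prime_two).mpr hp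

/-- `C_{O₂(C(t))}(d)` contains no elementary abelian group of order eight through `t`. -/
theorem no_eight {t d : G} (ht : t * t = 1) (ht1 : t ≠ 1) {Qt : Subgroup G}
    (hQt : IsCoreIn 2 Qt (Subgroup.centralizer ({t} : Set G))) (hdp : d ^ p = 1) (hd1 : d ≠ 1)
    {S : Subgroup G} (hSc : IsMulCommutative S) (hS2 : ∀ a ∈ S, a ^ 2 = 1) (hS8 : 8 ≤ Nat.card S)
    (htS : t ∈ S) (hSQ : S ≤ Qt) (hSd : ∀ a ∈ S, a * d = d * a) : False := by
  have : Fact (Nat.Prime 2) := ⟨Nat.prime_two⟩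
  obtain ⟨P, hP, -, hNP, hPc⟩ := hd.odd d hdp hd1
  obtain ⟨W, hWP, hWcl, hWexp, hWN, hWfaith⟩ := exists_small hp hP
  have hSN : ∀ a ∈ S, a ∈ Subgroup.normalizer (P : Set G) := fun a ha =>
    hNP (mem_normalizer_zpowers_of_commute (hSd a ha))
  have hSW : S ≤ Subgroup.normalizer (W : Set G) := fun a ha => hWN (hSN a ha)
  have hsq : ∀ a ∈ S, a * a = 1 := fun a ha => by rw [← pow_two]; exact hS2 a ha
  have hScomm : ∀ a ∈ S, ∀ b ∈ S, a * b = b * a := fun a ha b hb =>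
    congrArg Subtype.val (mul_comm' (⟨a, ha⟩ : S) ⟨b, hb⟩)
  have hfix : ∀ x ∈ P, t * x = x * t → ∀ a ∈ S, a * x = x * a := fun x hx h a ha =>
    (commute_of_inf_eq_bot (disjoint_of_primes hp hP hQt.1) hx (hSQ ha)
      (hQt.2.2.1 (Subgroup.mem_centralizer_singleton_iff.mpr h.symm)) (hSN a ha)).symm
  have hother : ∀ K₀ ≤ S, K₀.relIndex S ∣ 2 → ∃ K ≤ S, K.relIndex S ∣ 2 ∧ K ≠ K₀ ∧
      ∃ x ∈ W, (∀ k ∈ K, k * x = x * k) ∧ t * x ≠ x * t := by
    intro K₀ hK₀ hr₀
    by_contra hall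
    push Not at hall
    have hne : K₀ ≠ ⊥ := by
      rintro rfl
      rw [Subgroup.relIndex_bot_left] at hr₀
      have := Nat.le_of_dvd Nat.two_pos hr₀
      omega
    obtain ⟨⟨κ, hκ⟩, hκ1⟩ := Subgroup.ne_bot_iff_exists_ne_one.mp hne
    have hκS := hK₀ hκ
    have hW : W ≤ Subgroup.centralizer ({κ} : Set G) := by
      refine (CfsgLib.Hyperplane.le_iSup_centralizer (p := 2) ⟨hSc, hS2⟩
        (not_dvd_card_of_isPGroup hp (hP.to_le hWP)) hSW).trans (iSup_le ?_)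
      rintro ⟨K, hK, hr⟩ x ⟨hxW, hxK⟩
      refine Subgroup.mem_centralizer_singleton_iff.mpr ?_
      by_cases hKK : K = K₀
      · subst hKK
        exact (Subgroup.mem_centralizer_iff.mp hxK κ hκ).symm
      · have htx := hall K hK hr hKK x hxW (fun k hk => Subgroup.mem_centralizer_iff.mp hxK k hk)
        exact (hfix x (hWP hxW) htx κ hκS).symm
    have hall' := hWfaith κ (hSN κ hκS) (orderOf_coprime_of_sq hp (hsq κ hκS))
      fun w hw => (Subgroup.mem_centralizer_singleton_iff.mp (hW hw)).symm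
    have hκP := hPc κ (mem_normalizer_zpowers_of_commute (hSd κ hκS)) hall'
    exact hκ1 (Subtype.ext (Subgroup.disjoint_def.mp (disjoint_of_primes hp hP hQt.1) hκP (hSQ hκS)))
  obtain ⟨K₁, hK₁, hr₁, -, x₁, hx₁, hc₁, hm₁⟩ := hother S le_rfl (by simp)
  obtain ⟨K₂, hK₂, hr₂, hne, x₂, hx₂, hc₂, hm₂⟩ := hother K₁ hK₁ hr₁
  have hmk : ∀ K ≤ S, ∀ x ∈ W, (∀ k ∈ K, k * x = x * k) → t * x ≠ x * t →
      x⁻¹ * (t * x * t) ∈ W ∧ x⁻¹ * (t * x * t) ≠ 1 ∧ t * (x⁻¹ * (t * x * t)) * t = (x⁻¹ * (t * x * t))⁻¹ ∧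
        (∀ k ∈ K, Commute k (x⁻¹ * (t * x * t))) ∧ t ∉ K := by
    intro K hK x hx hc hm
    refine ⟨mul_mem (inv_mem hx) (invol_conj_mem ht (hSW htS) hx), fun h => hm ?_, ?_, fun k hk => ?_,
      fun h => hm (hc t h)⟩
    · exact (invol_fixed_iff ht x).mp (inv_mul_eq_one.mp h).symm
    · rw [invol_conj_mul ht, invol_conj_inv ht, invol_conj_conj ht]
      group
    · have hkt : Commute k t := hScomm k (hK hk) t htS
      have hkx : Commute k x := hc k hk
      exact hkx.inv_right.mul_right ((hkt.mul_right hkx).mul_right hkt)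
  obtain ⟨huW, hu1, htu, hKu, htK₁⟩ := hmk K₁ hK₁ x₁ hx₁ hc₁ hm₁
  obtain ⟨hwW, hw1, htw, hKw, htK₂⟩ := hmk K₂ hK₂ x₂ hx₂ hc₂ hm₂
  set u := x₁⁻¹ * (t * x₁ * t)
  set w := x₂⁻¹ * (t * x₂ * t)
  -- an element of `K₁ ⊓ K₂`
  have hr12 : ∀ K : Subgroup G, K.relIndex S ∣ 2 → t ∉ K → K.relIndex S = 2 := by
    intro K hr htK
    rcases Nat.prime_two.eq_one_or_self_of_dvd _ hr with h | h
    · exact absurd (Subgroup.relIndex_eq_one.mp h htS) htK
    · exact h
  obtain ⟨⟨s, hs⟩, hs1'⟩ : ∃ s : (K₁ ⊓ K₂ : Subgroup G), s ≠ 1 := by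
    refine Subgroup.ne_bot_iff_exists_ne_one.mp fun h => ?_
    have h1 := Subgroup.relIndex_inf_le (H := K₁) (K := K₂) (L := S)
    rw [h, Subgroup.relIndex_bot_left, hr12 K₁ hr₁ htK₁, hr12 K₂ hr₂ htK₂] at h1
    omega
  have hs1 : s ≠ 1 := fun h => hs1' (Subtype.ext h)
  obtain ⟨hsK₁, hsK₂⟩ := Subgroup.mem_inf.mp hs
  obtain ⟨σ, hσ₁, hσ₂⟩ : ∃ σ ∈ K₁, σ ∉ K₂ := by
    by_contra hall
    push Not at hall
    have h := Subgroup.relIndex_mul_relIndex K₁ K₂ S hall hK₂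
    rw [hr12 K₁ hr₁ htK₁, hr12 K₂ hr₂ htK₂] at h
    have : K₁.relIndex K₂ = 1 := by omega
    exact hne (le_antisymm (Subgroup.relIndex_eq_one.mp this) hall)
  have hσS := hK₁ hσ₁
  have hσσ := hsq σ hσS
  have htσ : t * σ ∈ K₂ := by
    have h2 : (K₂.subgroupOf S).index = 2 := hr12 K₂ hr₂ htK₂
    have h := (Subgroup.mul_mem_iff_of_index_two h2 (a := ⟨t, htS⟩) (b := ⟨σ, hσS⟩)).mpr
      (iff_of_false (fun h => htK₂ h) (fun h => hσ₂ h))
    exact h
  have hσw : σ * w * σ = w⁻¹ := by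
    have e : (t * σ) * w * (t * σ) = w := by
      rw [(hKw _ htσ).eq, mul_assoc, hsq _ (mul_mem htS hσS), mul_one]
    calc σ * w * σ = (t * t) * (σ * w * σ) * (t * t) := by rw [ht, one_mul, mul_one]
      _ = t * ((t * σ) * w * (σ * t)) * t := by group
      _ = t * ((t * σ) * w * (t * σ)) * t := by rw [hScomm σ hσS t htS]
      _ = w⁻¹ := by rw [e, htw]
  have hσu : σ * u * σ = u := (invol_fixed_iff hσσ u).mpr (hKu σ hσ₁).eq
  have hcmem : ⁅u, w⁆ ∈ W := by
    rw [commutatorElement_def]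
    exact mul_mem (mul_mem (mul_mem huW hwW) (inv_mem huW)) (inv_mem hwW)
  have hinv1 : ⁅u, w⁻¹⁆ = ⁅u, w⁆⁻¹ := by
    have h := hWcl u huW w hwW w hwW
    calc ⁅u, w⁻¹⁆ = w⁻¹ * ⁅u, w⁆⁻¹ * w := by simp only [commutatorElement_def]; group
      _ = ⁅u, w⁆⁻¹ := by rw [mul_assoc, h.inv_left.eq, inv_mul_cancel_left]
  have hinv2 : ⁅u⁻¹, w⁻¹⁆ = ⁅u, w⁆ := by
    have h := hWcl u huW w hwW (u⁻¹ * w⁻¹) (mul_mem (inv_mem huW) (inv_mem hwW))
    calc ⁅u⁻¹, w⁻¹⁆ = (u⁻¹ * w⁻¹) * ⁅u, w⁆ * (u⁻¹ * w⁻¹)⁻¹ := by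
          simp only [commutatorElement_def]; group
      _ = ⁅u, w⁆ := by rw [← h.eq, mul_inv_cancel_right]
  have hconjc : ∀ a : G, a * a = 1 → a * ⁅u, w⁆ * a = ⁅a * u * a, a * w * a⁆ := by
    intro a ha
    simp only [commutatorElement_def, invol_conj_mul ha, invol_conj_inv ha]
  have hc1 : ⁅u, w⁆ = 1 := by
    have h1 : t * ⁅u, w⁆ * t = ⁅u, w⁆ := by rw [hconjc t ht, htu, htw, hinv2]
    have h2 := (invol_fixed_iff hσσ _).mpr
      (hfix _ (hWP hcmem) ((invol_fixed_iff ht _).mp h1) σ hσS)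
    rw [hconjc σ hσσ, hσu, hσw, hinv1] at h2
    have h4 : ⁅u, w⁆ ^ 2 = 1 := by
      rw [pow_two]
      nth_rewrite 1 [← h2]
      exact inv_mul_cancel _
    exact orderOf_eq_one_iff.mp (Nat.eq_one_of_dvd_coprimes
      ((Nat.coprime_primes (Fact.out : p.Prime) Nat.prime_two).mpr hp)
      (orderOf_dvd_of_pow_eq_one (hWexp _ hcmem)) (orderOf_dvd_of_pow_eq_one h4))
  refine not_inverted_pair hd hp ht ht1 (hsq s (hK₁ hsK₁)) hs1 (hScomm t htS s (hK₁ hsK₁)) hQt
    (hSQ (hK₁ hsK₁)) (hWexp u huW) (hWexp w hwW) (commutatorElement_eq_one_iff_commute.mp hc1).eq hu1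
    ?_ (hKu s hsK₁).eq (hKw s hsK₂).eq htu htw
  rintro ⟨n, hn⟩
  have hfixw : σ * w * σ = w := (invol_fixed_iff hσσ w).mpr (by
    rw [← hn]; exact ((hKu σ hσ₁).zpow_right n).eq)
  rw [hσw] at hfixw
  have h4 : w ^ 2 = 1 := by
    rw [pow_two]
    nth_rewrite 1 [← hfixw]
    exact inv_mul_cancel _
  exact hw1 (orderOf_eq_one_iff.mp (Nat.eq_one_of_dvd_coprimes
    ((Nat.coprime_primes (Fact.out : p.Prime) Nat.prime_two).mpr hp)
    (orderOf_dvd_of_pow_eq_one (hWexp _ hwW)) (orderOf_dvd_of_pow_eq_one h4)))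

/-- A four-group centralising an elementary abelian `p`-group makes it grow. -/
theorem grow {H : Subgroup G} (hH : Cfsg.IsElementaryAbelian p H) (hH1 : H ≠ ⊥) {z z' : G}
    (hz : z * z = 1) (hz1 : z ≠ 1) (hz' : z' * z' = 1) (hz'1 : z' ≠ 1) (hne : z ≠ z')
    (hzz' : z * z' = z' * z) (hzH : ∀ h ∈ H, z * h = h * z) (hz'H : ∀ h ∈ H, z' * h = h * z') :
    ∃ (t : G) (E : Subgroup G), t * t = 1 ∧ t ≠ 1 ∧ Cfsg.IsElementaryAbelian p E ∧
      (∀ e ∈ E, e * t = t * e) ∧ p * Nat.card H ≤ Nat.card E := by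
  have : Fact (Nat.Prime 2) := ⟨Nat.prime_two⟩
  obtain ⟨⟨d, hdH⟩, hd1'⟩ := Subgroup.ne_bot_iff_exists_ne_one.mp hH1
  have hd1 : d ≠ 1 := fun h => hd1' (Subtype.ext h)
  obtain ⟨P, hP, -, hNP, hPc⟩ := hd.odd d (hH.2 d hdH) hd1
  obtain ⟨W, hWP, -, hWexp, hWN, hWfaith⟩ := exists_small hp hP
  have := hH.1
  have hHc : ∀ a ∈ H, ∀ b ∈ H, a * b = b * a := fun a ha b hb =>
    congrArg Subtype.val (mul_comm' (⟨a, ha⟩ : H) ⟨b, hb⟩)
  have hHp : IsPGroup p H := fun x => ⟨1, Subtype.ext (by simpa using hH.2 x x.2)⟩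
  have hHW : H ≤ Subgroup.normalizer (W : Set G) := fun h hh =>
    hWN (hNP (mem_normalizer_zpowers_of_commute (hHc h hh d hdH)))
  set S := Subgroup.closure ({z, z'} : Set G) with hS
  have hcomm : ∀ a ∈ ({z, z'} : Set G), ∀ b ∈ ({z, z'} : Set G), a * b = b * a := by
    rintro a (rfl | rfl) b (rfl | rfl) <;>
      first
        | rfl
        | assumption
        | exact hzz'.symm
  have hSc : IsMulCommutative S := Subgroup.isMulCommutative_closure hcomm
  have hSprop : ∀ a ∈ S, a ^ 2 = 1 ∧ ∀ h ∈ H, Commute a h := by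
    intro a ha
    induction ha using Subgroup.closure_induction with
    | mem a ha =>
      rcases ha with rfl | rfl
      · exact ⟨by rw [pow_two, hz], hzH⟩
      · exact ⟨by rw [pow_two, hz'], hz'H⟩
    | one => exact ⟨one_pow 2, fun h _ => Commute.one_left h⟩
    | mul a b ha hb iha ihb =>
      have hab : Commute a b := congrArg Subtype.val (mul_comm' (⟨a, ha⟩ : S) ⟨b, hb⟩)
      exact ⟨by rw [hab.mul_pow, iha.1, ihb.1, one_mul], fun h hh => (iha.2 h hh).mul_left (ihb.2 h hh)⟩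
    | inv a _ iha => exact ⟨by rw [inv_pow, iha.1, inv_one], fun h hh => (iha.2 h hh).inv_left⟩
  have hzS : z ∈ S := Subgroup.subset_closure (by simp)
  have hz'S : z' ∈ S := Subgroup.subset_closure (by simp)
  set X := W ⊓ Subgroup.centralizer (H : Set G) with hX
  have hSX : S ≤ Subgroup.normalizer (X : Set G) :=
    CfsgLib.Hyperplane.le_normalizer_of_conj_mem fun a ha x hx => by
      refine Subgroup.mem_inf.mpr ⟨(Subgroup.mem_normalizer_iff.mp
        (hWN (hNP (mem_normalizer_zpowers_of_commute ((hSprop a ha).2 d hdH).eq))) x).mp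
        (Subgroup.mem_inf.mp hx).1, Subgroup.mem_centralizer_iff.mpr fun h hh => ?_⟩
      have h1 : Commute h x := Subgroup.mem_centralizer_iff.mp (Subgroup.mem_inf.mp hx).2 h hh
      have h2 : Commute h a := ((hSprop a ha).2 h hh).symm
      exact ((h2.mul_right h1).mul_right h2.inv_right).eq
  obtain ⟨x, hxX, w, hwS, hw1, hwx, hzx⟩ : ∃ x ∈ X, ∃ w ∈ S, w ≠ 1 ∧ w * x = x * w ∧ z * x ≠ x * z := by
    by_contra hall
    push Not at hall
    have hXz : X ≤ Subgroup.centralizer ({z} : Set G) := by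
      refine (CfsgLib.Hyperplane.le_iSup_centralizer (p := 2) ⟨hSc, fun a ha => (hSprop a ha).1⟩
        (not_dvd_card_of_isPGroup hp (hP.to_le (inf_le_left.trans hWP))) hSX).trans (iSup_le ?_)
      rintro ⟨K, hK, hr⟩ y ⟨hyX, hyK⟩
      have hKne : K ≠ ⊥ := by
        rintro rfl
        rw [Subgroup.relIndex_bot_left] at hr
        have h1 : Nat.card (Subgroup.zpowers z) = 2 := by
          rw [Nat.card_zpowers, orderOf_eq_prime (by rw [pow_two, hz]) hz1]
        have hlt : Subgroup.zpowers z < S := by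
          refine lt_of_le_not_ge (Subgroup.zpowers_le_of_mem hzS) fun h => ?_
          obtain ⟨n, hn⟩ := h hz'S
          have hn' : z ^ n = z' := hn
          rcases Int.even_or_odd n with ⟨m, rfl⟩ | ⟨m, rfl⟩
          · exact hz'1 (by rw [← hn', ← two_mul, zpow_mul, zpow_two, hz, one_zpow])
          · exact hne (by rw [← hn', zpow_add, zpow_mul, zpow_two, hz, one_zpow, one_mul, zpow_one])
        have h2 := two_mul_card_le hlt
        have h3 := Nat.le_of_dvd Nat.two_pos hr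
        omega
      obtain ⟨⟨w, hw⟩, hw1⟩ := Subgroup.ne_bot_iff_exists_ne_one.mp hKne
      exact Subgroup.mem_centralizer_singleton_iff.mpr (hall y hyX w (hK hw) (fun e => hw1 (Subtype.ext e))
        (Subgroup.mem_centralizer_iff.mp hyK w hw)).symm
    have hzN : z ∈ Subgroup.normalizer (Subgroup.zpowers d : Set G) :=
      mem_normalizer_zpowers_of_commute (hzH d hdH)
    have hW := CfsgLib.GlaubermanZJ.thompson_axb_elem (hP.to_le hWP) hHp hHW
      (hWN (hNP hzN)) hzH (orderOf_coprime_of_sq hp hz)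
      fun y hy hyH => (Subgroup.mem_centralizer_singleton_iff.mp (hXz (Subgroup.mem_inf.mpr
        ⟨hy, Subgroup.mem_centralizer_iff.mpr hyH⟩))).symm
    have hzP := hPc z hzN (hWfaith z (hNP hzN) (orderOf_coprime_of_sq hp hz) hW)
    obtain ⟨k, hk⟩ := IsPGroup.iff_orderOf.mp hP ⟨z, hzP⟩
    rw [Subgroup.orderOf_mk] at hk
    exact hz1 (orderOf_eq_one_iff.mp (Nat.eq_one_of_dvd_coprimes
      ((orderOf_coprime_of_sq hp hz).pow_right k) dvd_rfl (hk ▸ dvd_rfl)))
  obtain ⟨hxW, hxH⟩ := Subgroup.mem_inf.mp hxX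
  set E := Subgroup.closure (insert x (H : Set G)) with hE
  have hgen : ∀ a ∈ insert x (H : Set G), ∀ b ∈ insert x (H : Set G), a * b = b * a := by
    rintro a (rfl | ha) b (rfl | hb)
    · rfl
    · exact (Subgroup.mem_centralizer_iff.mp hxH b hb).symm
    · exact Subgroup.mem_centralizer_iff.mp hxH a ha
    · exact hHc a ha b hb
  have hEc : IsMulCommutative E := Subgroup.isMulCommutative_closure hgen
  have hEprop : ∀ a ∈ E, a ^ p = 1 ∧ Commute a w := by
    intro a ha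
    induction ha using Subgroup.closure_induction with
    | mem a ha =>
      rcases ha with rfl | ha
      · exact ⟨hWexp _ hxW, hwx.symm⟩
      · exact ⟨hH.2 a ha, ((hSprop w hwS).2 a ha).symm⟩
    | one => exact ⟨one_pow p, Commute.one_left w⟩
    | mul a b ha hb iha ihb =>
      have hab : Commute a b := congrArg Subtype.val (mul_comm' (⟨a, ha⟩ : E) ⟨b, hb⟩)
      exact ⟨by rw [hab.mul_pow, iha.1, ihb.1, one_mul], iha.2.mul_left ihb.2⟩
    | inv a _ iha => exact ⟨by rw [inv_pow, iha.1, inv_one], iha.2.inv_left⟩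
  refine ⟨w, E, by rw [← pow_two]; exact (hSprop w hwS).1, hw1, ⟨hEc, fun a ha => (hEprop a ha).1⟩,
    fun e he => (hEprop e he).2.eq, ?_⟩
  have hle : H ≤ E := fun a ha => Subgroup.subset_closure (Set.mem_insert_of_mem _ ha)
  have hxE : x ∈ E := Subgroup.subset_closure (Set.mem_insert x _)
  obtain ⟨k, hk⟩ := Subgroup.card_dvd_of_le hle
  have hEp : IsPGroup p E := fun a => ⟨1, Subtype.ext (by simpa using (hEprop a a.2).1)⟩
  obtain ⟨n, hn⟩ := IsPGroup.iff_card.mp hEp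
  obtain ⟨j, -, hj⟩ := (Nat.dvd_prime_pow (Fact.out : p.Prime)).mp (hn ▸ Dvd.intro_left _ hk.symm)
  have hk1 : k ≠ 1 := by
    rintro rfl
    rw [mul_one] at hk
    have heq := Subgroup.eq_of_le_of_card_ge hle hk.le
    exact hzx (hzH x (heq ▸ hxE))
  rw [hk, mul_comm p]
  refine Nat.mul_le_mul_left _ ?_
  rw [hj]
  exact Nat.le_self_pow (fun h0 => hk1 (by rw [hj, h0, pow_zero])) p

/-- No involution centralises an elementary abelian group of order `p³`. -/
theorem not_three {t : G} (ht : t * t = 1) (ht1 : t ≠ 1) {E : Subgroup G}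
    (hE : Cfsg.IsElementaryAbelian p E) (hEt : ∀ e ∈ E, e * t = t * e) : ¬ p ^ 3 ≤ Nat.card E := by
  intro h3
  have : Fact (Nat.Prime 2) := ⟨Nat.prime_two⟩
  -- a largest such pair
  obtain ⟨⟨t₀, E₀⟩, ⟨ht₀, ht₀1, hE₀, hEt₀, h3₀⟩, hmax⟩ :=
    Set.Finite.exists_maximalFor (fun q : G × Subgroup G => Nat.card q.2)
      {q : G × Subgroup G | q.1 * q.1 = 1 ∧ q.1 ≠ 1 ∧ Cfsg.IsElementaryAbelian p q.2 ∧
        (∀ e ∈ q.2, e * q.1 = q.1 * e) ∧ p ^ 3 ≤ Nat.card q.2}
      (Set.toFinite _) ⟨(t, E), ht, ht1, hE, hEt, h3⟩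
  clear ht ht1 hE hEt h3 t E
  have hp1 : 1 < p := (Fact.out : p.Prime).one_lt
  have hE1 : E₀ ≠ ⊥ := by
    rintro rfl
    rw [Subgroup.card_bot] at h3₀
    exact absurd h3₀ (not_le.mpr (Nat.one_lt_pow (by norm_num) hp1))
  obtain ⟨Q, hQ⟩ := hd.two t₀ ht₀ ht₀1
  have := hE₀.1
  have hEc : ∀ a ∈ E₀, ∀ b ∈ E₀, a * b = b * a := fun a ha b hb =>
    congrArg Subtype.val (mul_comm' (⟨a, ha⟩ : E₀) ⟨b, hb⟩)
  have hEp : IsPGroup p E₀ := fun x => ⟨1, Subtype.ext (by simpa using hE₀.2 x x.2)⟩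
  have hEQ : E₀ ≤ Subgroup.normalizer (Q : Set G) := fun e he =>
    hQ.2.2.1 (Subgroup.mem_centralizer_singleton_iff.mpr (hEt₀ e he))
  have htC : t₀ ∈ Subgroup.centralizer ({t₀} : Set G) := Subgroup.mem_centralizer_singleton_iff.mpr rfl
  have htQ : t₀ ∈ Q :=
    hQ.2.2.2 t₀ htC fun y hy => (Subgroup.mem_centralizer_singleton_iff.mp (hQ.2.1 hy)).symm
  -- `t₀` is the only involution centralising `E₀`
  have huniq : ∀ z : G, z * z = 1 → z * t₀ = t₀ * z → (∀ e ∈ E₀, e * z = z * e) → z = 1 ∨ z = t₀ := by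
    intro z hz hzt hze
    by_contra hne
    push Not at hne
    obtain ⟨w, E', hw, hw1, hE', hE'w, hcard⟩ := grow hd hp hE₀ hE1 hz hne.1 ht₀ ht₀1 hne.2 hzt
      (fun h hh => (hze h hh).symm) (fun h hh => (hEt₀ h hh).symm)
    have hlt : Nat.card E₀ < Nat.card E' :=
      lt_of_lt_of_le (lt_mul_of_one_lt_left Nat.card_pos hp1) hcard
    exact absurd (hmax (j := (w, E')) ⟨hw, hw1, hE', hE'w, h3₀.trans hlt.le⟩ hlt.le) (not_le.mpr hlt)
  -- two hyperplanes acting non-trivially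
  have hcompl : ∀ K ≤ E₀, K ≠ ⊥ → ∃ H ≤ E₀, H.relIndex E₀ ∣ p ∧ H ≠ K ∧
      ∃ y ∈ Q, (∀ h ∈ H, h * y = y * h) ∧ ∃ e ∈ E₀, e * y ≠ y * e := by
    intro K hK hK1
    by_contra hall
    push Not at hall
    obtain ⟨⟨k, hk⟩, hk1⟩ := Subgroup.ne_bot_iff_exists_ne_one.mp hK1
    have hQk : Q ≤ Subgroup.centralizer ({k} : Set G) := by
      refine (CfsgLib.Hyperplane.le_iSup_centralizer hE₀
        (not_dvd_card_of_isPGroup hp.symm hQ.1) hEQ).trans (iSup_le ?_)
      rintro ⟨H, hH, hr⟩ y ⟨hyQ, hyH⟩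
      refine Subgroup.mem_centralizer_singleton_iff.mpr ?_
      by_cases hHK : H = K
      · subst hHK
        exact (Subgroup.mem_centralizer_iff.mp hyH k hk).symm
      · exact (hall H hH hr hHK y hyQ (fun h hh => Subgroup.mem_centralizer_iff.mp hyH h hh) k (hK hk)).symm
    have hkQ := hQ.2.2.2 k (Subgroup.mem_centralizer_singleton_iff.mpr (hEt₀ k (hK hk)))
      fun y hy => (Subgroup.mem_centralizer_singleton_iff.mp (hQk hy)).symm
    exact hk1 (Subtype.ext (Subgroup.disjoint_def.mp (disjoint_of_primes hp hEp hQ.1) (hK hk) hkQ))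
  have hhyp : ∀ H ≤ E₀, H.relIndex E₀ ∣ p → H ≠ ⊥ := by
    rintro H - hr rfl
    rw [Subgroup.relIndex_bot_left] at hr
    have := h3₀.trans (Nat.le_of_dvd (Fact.out : p.Prime).pos hr)
    exact absurd this (not_le.mpr (lt_self_pow₀ hp1 (by norm_num)))
  obtain ⟨H₁, hH₁, hr₁, -, y₁, hy₁, hc₁, e₁, he₁, hm₁⟩ := hcompl E₀ le_rfl hE1
  obtain ⟨H₂, hH₂, hr₂, hne, y₂, hy₂, hc₂, e₂, he₂, hm₂⟩ := hcompl H₁ hH₁ (hhyp H₁ hH₁ hr₁)
  have hd12 : H₁ ⊓ H₂ ≠ ⊥ := by
    intro h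
    have hrne : ∀ H : Subgroup G, H.relIndex E₀ ∣ p → H.relIndex E₀ ≤ p := fun H hr =>
      Nat.le_of_dvd (Fact.out : p.Prime).pos hr
    have h1 := Subgroup.relIndex_inf_le (H := H₁) (K := H₂) (L := E₀)
    rw [h, Subgroup.relIndex_bot_left] at h1
    have h2 := h3₀.trans (h1.trans (Nat.mul_le_mul (hrne H₁ hr₁) (hrne H₂ hr₂)))
    rw [← pow_two] at h2
    exact absurd h2 (not_le.mpr (Nat.pow_lt_pow_right hp1 (by norm_num)))
  obtain ⟨⟨d, hd12'⟩, hd1'⟩ := Subgroup.ne_bot_iff_exists_ne_one.mp hd12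
  obtain ⟨hdH₁, hdH₂⟩ := Subgroup.mem_inf.mp hd12'
  have hdE := hH₁ hdH₁
  set Y := Q ⊓ Subgroup.centralizer ({d} : Set G) with hY
  have hy₁Y : y₁ ∈ Y := Subgroup.mem_inf.mpr ⟨hy₁, Subgroup.mem_centralizer_singleton_iff.mpr
    (hc₁ d hdH₁).symm⟩
  have hy₂Y : y₂ ∈ Y := Subgroup.mem_inf.mpr ⟨hy₂, Subgroup.mem_centralizer_singleton_iff.mpr
    (hc₂ d hdH₂).symm⟩
  have hEY : E₀ ≤ Subgroup.normalizer (Y : Set G) :=
    CfsgLib.Hyperplane.le_normalizer_of_conj_mem fun e he y hy => by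
      refine Subgroup.mem_inf.mpr ⟨(Subgroup.mem_normalizer_iff.mp (hEQ he) y).mp (Subgroup.mem_inf.mp hy).1,
        Subgroup.mem_centralizer_singleton_iff.mpr ?_⟩
      have h1 : Commute y d := Subgroup.mem_centralizer_singleton_iff.mp (Subgroup.mem_inf.mp hy).2
      have h2 : Commute e d := hEc e he d hdE
      exact ((h2.mul_left h1).mul_left h2.inv_left).eq
  have hfaith : ∀ K ≤ E₀, K.relIndex E₀ ∣ p → ∃ k ∈ K, ∃ y ∈ Y, k * y ≠ y * k := by
    intro K hK hrK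
    by_contra hall
    push Not at hall
    -- `K` together with `Hᵢ` centralises `yᵢ`
    have key : ∀ H ≤ E₀, H.relIndex E₀ ∣ p → ∀ y ∈ Y, (∀ h ∈ H, h * y = y * h) → ∀ e ∈ E₀,
        e * y ≠ y * e → K ≤ H := by
      intro H hH hr y hy hc e he hm
      by_contra hle
      refine hm (Subgroup.mem_centralizer_singleton_iff.mp ?_)
      have heHK : e ∈ H ⊔ K := (sup_eq_of_not_le hH hK hr hle).symm ▸ he
      exact (sup_le (a := H) (b := K) (c := Subgroup.centralizer ({y} : Set G)) (fun h hh => Subgroup.mem_centralizer_singleton_iff.mpr (hc h hh))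
        (fun k hk => Subgroup.mem_centralizer_singleton_iff.mpr (hall k hk y hy))) heHK
    have h1 := key H₁ hH₁ hr₁ y₁ hy₁Y hc₁ e₁ he₁ hm₁
    have h2 := key H₂ hH₂ hr₂ y₂ hy₂Y hc₂ e₂ he₂ hm₂
    have heq : ∀ H ≤ E₀, H.relIndex E₀ ∣ p → (∀ y ∈ Y, ∀ e ∈ E₀, (∀ h ∈ H, h * y = y * h) →
        e * y ≠ y * e → True) → K ≤ H → H.relIndex E₀ ≠ 1 → H = K := by
      intro H hH hr _ hKH hne1
      have hmul := Subgroup.relIndex_mul_relIndex K H E₀ hKH hH
      rw [((Fact.out : p.Prime).eq_one_or_self_of_dvd _ hr).resolve_left hne1] at hmul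
      have h3 : K.relIndex H * p ∣ 1 * p := by rw [hmul, one_mul]; exact hrK
      exact le_antisymm (Subgroup.relIndex_eq_one.mp (Nat.eq_one_of_dvd_one
        (Nat.dvd_of_mul_dvd_mul_right (Fact.out : p.Prime).pos h3))) hKH
    have hn1 : H₁.relIndex E₀ ≠ 1 := fun h => hm₁ (hc₁ e₁ (Subgroup.relIndex_eq_one.mp h he₁))
    have hn2 : H₂.relIndex E₀ ≠ 1 := fun h => hm₂ (hc₂ e₂ (Subgroup.relIndex_eq_one.mp h he₂))
    exact hne ((heq H₂ hH₂ hr₂ (fun _ _ _ _ _ _ => trivial) h2 hn2).trans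
      (heq H₁ hH₁ hr₁ (fun _ _ _ _ _ _ => trivial) h1 hn1).symm)
  obtain ⟨S, hSY, ⟨hSc, hS2⟩, hS8, htS⟩ := exists_elementary_eight hp hE₀ (hQ.1.to_le inf_le_left) hEY
    ht₀ ht₀1 (Subgroup.mem_inf.mpr ⟨htQ, Subgroup.mem_centralizer_singleton_iff.mpr (hEt₀ d hdE).symm⟩)
    hEt₀ (fun y hy => (Subgroup.mem_centralizer_singleton_iff.mp (hQ.2.1 (Subgroup.mem_inf.mp hy).1)).symm)
    (fun z hz hz2 hze => huniq z hz2
      (Subgroup.mem_centralizer_singleton_iff.mp (hQ.2.1 (Subgroup.mem_inf.mp hz).1)) hze)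
    hfaith
  exact no_eight hd hp ht₀ ht₀1 hQ (hE₀.2 d hdE) (fun h => hd1' (Subtype.ext h)) hSc hS2 hS8 htS
    (fun a ha => (Subgroup.mem_inf.mp (hSY ha)).1)
    fun a ha => Subgroup.mem_centralizer_singleton_iff.mp (Subgroup.mem_inf.mp (hSY ha)).2

/-- A nontrivial two-group is normalised by no elementary abelian group of order `p³`. -/
theorem card_le_of_normalizes {T E : Subgroup G} (hT : IsPGroup 2 T) (hT1 : T ≠ ⊥)
    (hE : Cfsg.IsElementaryAbelian p E) (hET : E ≤ Subgroup.normalizer (T : Set G)) :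
    Nat.card E ≤ p ^ 2 := by
  have : Fact (Nat.Prime 2) := ⟨Nat.prime_two⟩
  by_contra hlt
  have hp1 : 1 < p := (Fact.out : p.Prime).one_lt
  have hEp : IsPGroup p E := fun x => ⟨1, Subtype.ext (by simpa using hE.2 x x.2)⟩
  obtain ⟨n, hn⟩ := IsPGroup.iff_card.mp hEp
  have h3n : 3 ≤ n := by
    by_contra hh
    exact hlt (hn ▸ Nat.pow_le_pow_right hp1.le (by omega))
  have := hE.1
  have hEc : ∀ a ∈ E, ∀ b ∈ E, a * b = b * a := fun a ha b hb =>
    congrArg Subtype.val (mul_comm' (⟨a, ha⟩ : E) ⟨b, hb⟩)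
  -- a hyperplane with non-trivial fixed points
  obtain ⟨H, hH, hr, hTH⟩ : ∃ H ≤ E, H.relIndex E ∣ p ∧ T ⊓ Subgroup.centralizer (H : Set G) ≠ ⊥ := by
    by_contra hall
    push Not at hall
    refine hT1 (eq_bot_iff.mpr ((CfsgLib.Hyperplane.le_iSup_centralizer hE
      (not_dvd_card_of_isPGroup hp.symm hT) hET).trans (iSup_le ?_)))
    rintro ⟨H, hH, hr⟩
    exact (hall H hH hr).le
  set Y := T ⊓ Subgroup.centralizer (H : Set G) with hY
  have hY2 : IsPGroup 2 Y := hT.to_le inf_le_left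
  have : Nontrivial Y := (Subgroup.nontrivial_iff_ne_bot Y).mpr hTH
  have := hY2.center_nontrivial
  obtain ⟨k, hk0, hk⟩ := (hY2.to_subgroup (Subgroup.center Y)).nontrivial_iff_card.mp inferInstance
  obtain ⟨zc, hzc⟩ := exists_prime_orderOf_dvd_card' (G := Subgroup.center Y) 2
    (hk ▸ dvd_pow_self 2 hk0.ne')
  set z : G := ((zc : Y) : G) with hz
  have hzo : orderOf z = 2 := by rw [hz, Subgroup.orderOf_coe, Subgroup.orderOf_coe, hzc]
  have hz2 : z * z = 1 := by rw [← pow_two, ← hzo, pow_orderOf_eq_one]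
  have hz1 : z ≠ 1 := fun h => by rw [h, orderOf_one] at hzo; norm_num at hzo
  have hzY : z ∈ Y := (zc : Y).2
  have hzcomm : ∀ y ∈ Y, y * z = z * y := fun y hy =>
    congrArg Subtype.val (Subgroup.mem_center_iff.mp zc.2 ⟨y, hy⟩)
  have hzH : ∀ h ∈ H, h * z = z * h := Subgroup.mem_centralizer_iff.mp (Subgroup.mem_inf.mp hzY).2
  by_cases hall : ∀ e ∈ E, e * z = z * e
  · exact not_three hd hp hz2 hz1 hE hall (hn ▸ Nat.pow_le_pow_right hp1.le h3n)
  push Not at hall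
  obtain ⟨a, ha, haz⟩ := hall
  set z' := a * z * a⁻¹ with hz'
  have hz'H : ∀ h ∈ H, Commute z' h := fun h hh => by
    have h1 : Commute a h := hEc a ha h (hH hh)
    exact (h1.mul_left (show Commute z h from (hzH h hh).symm)).mul_left h1.inv_left
  have hz'Y : z' ∈ Y := Subgroup.mem_inf.mpr
    ⟨(Subgroup.mem_normalizer_iff.mp (hET ha) z).mp (Subgroup.mem_inf.mp hzY).1,
      Subgroup.mem_centralizer_iff.mpr fun h hh => (hz'H h hh).eq.symm⟩
  have hHne : H ≠ ⊥ := by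
    rintro rfl
    rw [Subgroup.relIndex_bot_left, hn] at hr
    have h1 := Nat.le_of_dvd (Fact.out : p.Prime).pos hr
    exact absurd h1 (not_le.mpr (lt_self_pow₀ hp1 (by omega)))
  obtain ⟨w, E', hw, hw1, hE', hE'w, hcard⟩ := grow hd hp
    (H := H) ⟨IsMulCommutative.of_comm fun x y => Subtype.ext (hEc x (hH x.2) y (hH y.2)),
      fun h hh => hE.2 h (hH hh)⟩ hHne hz2 hz1
    (z' := z') (by rw [hz', show a * z * a⁻¹ * (a * z * a⁻¹) = a * (z * z) * a⁻¹ by group, hz2]; group)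
    (fun h => hz1 (conj_eq_one_iff.mp h)) (fun h => haz (mul_inv_eq_iff_eq_mul.mp h.symm))
    (hzcomm z' hz'Y).symm (fun h hh => (hzH h hh).symm) (fun h hh => (hz'H h hh).eq)
  refine not_three hd hp hw hw1 hE' hE'w (le_trans ?_ hcard)
  have h1 : Nat.card E ∣ p * Nat.card H := by
    rw [← Subgroup.relIndex_bot_left E, ← Subgroup.relIndex_mul_relIndex ⊥ H E bot_le hH,
      Subgroup.relIndex_bot_left, mul_comm p]
    exact Nat.mul_dvd_mul_left _ hr
  exact le_trans (hn ▸ Nat.pow_le_pow_right hp1.le h3n)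
    (Nat.le_of_dvd (Nat.mul_pos (Fact.out : p.Prime).pos Nat.card_pos) h1)

theorem twoLocalPRankLE : Cfsg.TwoLocalPRankLE p 2 G := by
  rintro M ⟨T, hT, hT1, rfl⟩ A hAc hAexp
  have hA : Cfsg.IsElementaryAbelian p (A.map (Subgroup.normalizer (T : Set G)).subtype) := by
    refine ⟨IsMulCommutative.of_comm ?_, ?_⟩
    · rintro ⟨_, a, ha, rfl⟩ ⟨_, b, hb, rfl⟩
      exact Subtype.ext (congrArg (fun c : A => ((c : Subgroup.normalizer (T : Set G)) : G))
        (mul_comm' (⟨a, ha⟩ : A) ⟨b, hb⟩))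
    · rintro _ ⟨a, ha, rfl⟩
      rw [← map_pow, hAexp a ha, map_one]
  have h := card_le_of_normalizes hd hp hT hT1 hA (Subgroup.map_subtype_le A)
  rwa [Subgroup.card_map_of_injective (Subgroup.subtype_injective _)] at h

end CfsgLib.PTwoType
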