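import Cfsg.Agent.PTwoType.Basic
import Cfsg.Agent.Signalizer.Hyperplane

/-!
A `2`-group `Y` acted on by an elementary abelian group `E` of odd exponent such that no maximal
subgroup of `E` centralises `Y` and only one involution `t` (central in `Y`) is fixed by `E` contains
an elementary abelian subgroup of order eight containing `t`.
-/

set_option autoImplicit false

open scoped commutatorElement

namespace CfsgLib.PTwoType

variable {G : Type*} [Group G]

/-- The subgroup `{1, t, x, t x}`. -/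
def fourGroup (t x : G) (ht : t * t = 1) (hx : x * x = 1) (h : t * x = x * t) : Subgroup G where
  carrier := {y | y = 1 ∨ y = t ∨ y = x ∨ y = t * x}
  one_mem' := Or.inl rfl
  mul_mem' := by
    have ht' : ∀ a, t * (t * a) = a := fun a => by rw [← mul_assoc, ht, one_mul]
    have hx' : ∀ a, x * (x * a) = a := fun a => by rw [← mul_assoc, hx, one_mul]
    have hxt : ∀ a, x * (t * a) = t * (x * a) := fun a => by rw [← mul_assoc, ← h, mul_assoc]
    rintro a b (rfl | rfl | rfl | rfl) (rfl | rfl | rfl | rfl) <;>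
      simp [mul_assoc, ht, hx, ht', hx', ← h, hxt]
  inv_mem' := by
    rintro a (rfl | rfl | rfl | rfl)
    · exact Or.inl inv_one
    · exact Or.inr (Or.inl (invol_inv ht))
    · exact Or.inr (Or.inr (Or.inl (invol_inv hx)))
    · exact Or.inr (Or.inr (Or.inr (by rw [mul_inv_rev, invol_inv ht, invol_inv hx, h])))

variable [Finite G]

theorem two_mul_card_le {A B : Subgroup G} (h : A < B) : 2 * Nat.card A ≤ Nat.card B := by
  obtain ⟨k, hk⟩ := Subgroup.card_dvd_of_le h.le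
  have hk2 : 2 ≤ k := by
    by_contra hk2
    interval_cases k
    · exact Nat.card_pos.ne' (by simpa using hk : Nat.card B = 0)
    · exact h.ne (Subgroup.eq_of_le_of_card_ge h.le (by omega))
  rw [hk, mul_comm 2]
  exact Nat.mul_le_mul_left _ hk2

/-- Three pairwise commuting involutions in general position. -/
theorem exists_eight {Y : Subgroup G} {t x y : G} (htY : t ∈ Y) (hxY : x ∈ Y) (hyY : y ∈ Y)
    (ht : t * t = 1) (hx : x * x = 1) (hy : y * y = 1) (htx : t * x = x * t) (hty : t * y = y * t)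
    (hxy : x * y = y * x) (ht1 : t ≠ 1) (hxt : ¬ (x = 1 ∨ x = t))
    (hyx : ¬ (y = 1 ∨ y = t ∨ y = x ∨ y = t * x)) :
    ∃ S ≤ Y, (IsMulCommutative S ∧ ∀ a ∈ S, a ^ 2 = 1) ∧ 8 ≤ Nat.card S ∧ t ∈ S := by
  set S := Subgroup.closure ({t, x, y} : Set G) with hS
  have hgen : ∀ z ∈ ({t, x, y} : Set G), z ∈ S := fun z hz => Subgroup.subset_closure hz
  have hcomm : ∀ a ∈ ({t, x, y} : Set G), ∀ b ∈ ({t, x, y} : Set G), a * b = b * a := by
    rintro a (rfl | rfl | rfl) b (rfl | rfl | rfl) <;>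
      first
        | rfl
        | assumption
        | exact htx.symm
        | exact hty.symm
        | exact hxy.symm
  have hC : IsMulCommutative S := Subgroup.isMulCommutative_closure hcomm
  refine ⟨S, Subgroup.closure_le _ |>.mpr (by rintro a (rfl | rfl | rfl) <;> assumption), ⟨hC, ?_⟩, ?_,
    hgen t (by simp)⟩
  · intro a ha
    induction ha using Subgroup.closure_induction with
    | mem a ha => rcases ha with rfl | rfl | rfl <;> rw [pow_two] <;> assumption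
    | one => exact one_pow 2
    | mul a b ha hb iha ihb =>
      have : Commute a b := congrArg Subtype.val (mul_comm' (⟨a, ha⟩ : S) ⟨b, hb⟩)
      rw [this.mul_pow, iha, ihb, one_mul]
    | inv a _ iha => rw [inv_pow, iha, inv_one]
  · have h1 : Nat.card (Subgroup.zpowers t) = 2 := by
      rw [Nat.card_zpowers]
      exact orderOf_eq_prime (by rw [pow_two, ht]) ht1
    have hA : Subgroup.zpowers t < fourGroup t x ht hx htx := by
      refine lt_of_le_not_ge (Subgroup.zpowers_le_of_mem (Or.inr (Or.inl rfl))) fun hle => hxt ?_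
      have hmem := hle (show x ∈ fourGroup t x ht hx htx from Or.inr (Or.inr (Or.inl rfl)))
      obtain ⟨n, hn⟩ := hmem
      rcases Int.even_or_odd n with ⟨m, rfl⟩ | ⟨m, rfl⟩
      · left
        rw [← hn]
        show t ^ (m + m) = 1
        rw [← two_mul, zpow_mul, zpow_two, ht, one_zpow]
      · right
        rw [← hn]
        show t ^ (2 * m + 1) = t
        rw [zpow_add, zpow_mul, zpow_two, ht, one_zpow, one_mul, zpow_one]
    have hB : fourGroup t x ht hx htx < S := by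
      refine lt_of_le_not_ge ?_ fun hle => hyx (hle (hgen y (by simp)))
      rintro a (rfl | rfl | rfl | rfl)
      · exact one_mem S
      · exact hgen _ (by simp)
      · exact hgen _ (by simp)
      · exact mul_mem (hgen _ (by simp)) (hgen _ (by simp))
    have h2 := two_mul_card_le hA
    have h3 := two_mul_card_le hB
    omega

variable {p : ℕ} [Fact p.Prime]

omit [Finite G] in
/-- An element of odd order cannot map `z` to `t z`. -/
theorem conj_ne_mul (hp : p ≠ 2) {a z t : G} (ha : a ^ p = 1) (ht : t * t = 1) (ht1 : t ≠ 1)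
    (hat : a * t = t * a) : a * z * a⁻¹ ≠ t * z := by
  intro h
  have hn : ∀ n : ℕ, a ^ n * z * (a ^ n)⁻¹ = t ^ n * z := by
    intro n
    induction n with
    | zero => simp
    | succ n ih =>
      calc a ^ (n + 1) * z * (a ^ (n + 1))⁻¹ = a * (a ^ n * z * (a ^ n)⁻¹) * a⁻¹ := by
            rw [pow_succ']; group
        _ = a * (t ^ n * z) * a⁻¹ := by rw [ih]
        _ = t ^ n * (a * z * a⁻¹) := by
          rw [← mul_assoc, ((Commute.pow_right (show Commute a t from hat) n).eq)]; group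
        _ = t ^ (n + 1) * z := by rw [h, pow_succ]; group
  have h1 := hn p
  obtain ⟨k, hk⟩ := (Fact.out : p.Prime).odd_of_ne_two hp
  rw [ha, one_mul, inv_one, mul_one, hk, pow_succ, pow_mul, pow_two, ht, one_pow, one_mul] at h1
  exact ht1 (right_eq_mul.mp h1)

omit [Finite G] in
theorem commute_of_commute_sq (hp : p ≠ 2) {a x : G} (ha : a ^ p = 1) (h : a * a * x = x * (a * a)) :
    a * x = x * a := by
  obtain ⟨k, hk⟩ := (Fact.out : p.Prime).odd_of_ne_two hp
  have e : a = (a * a) ^ (k + 1) := by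
    rw [← pow_two, ← pow_mul, show 2 * (k + 1) = p + 1 by omega, pow_succ, ha, one_mul]
  rw [e]
  exact (Commute.pow_left (show Commute (a * a) x from h) _).eq

omit [Finite G] [Fact p.Prime] in
theorem commute_of_same_commutator {y c c' : G} (h : ⁅y, c⁆ = ⁅y, c'⁆) : Commute y (c⁻¹ * c') := by
  rw [commutatorElement_def, commutatorElement_def] at h
  show y * (c⁻¹ * c') = c⁻¹ * c' * y
  calc y * (c⁻¹ * c') = c⁻¹ * (y * c * y⁻¹ * c⁻¹)⁻¹ * (y * c' * y⁻¹ * c'⁻¹) * c' * y := by group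
    _ = c⁻¹ * c' * y := by rw [h]; group

theorem sup_eq_of_not_le {E H K : Subgroup G} (hH : H ≤ E) (hK : K ≤ E) (hr : H.relIndex E ∣ p)
    (hKH : ¬ K ≤ H) : H ⊔ K = E := by
  have h := Subgroup.relIndex_mul_relIndex H (H ⊔ K) E le_sup_left (sup_le hH hK)
  have hd : H.relIndex (H ⊔ K) ∣ p := (Dvd.intro _ h).trans hr
  rcases (Fact.out : p.Prime).eq_one_or_self_of_dvd _ hd with h1 | h1
  · exact absurd (le_sup_right.trans (Subgroup.relIndex_eq_one.mp h1)) hKH
  · refine le_antisymm (sup_le hH hK) (Subgroup.relIndex_eq_one.mp ?_)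
    rw [h1] at h
    have h2 : p * (H ⊔ K).relIndex E ∣ p * 1 := by rw [h, mul_one]; exact hr
    exact Nat.eq_one_of_dvd_one (Nat.dvd_of_mul_dvd_mul_left (Fact.out : p.Prime).pos h2)

theorem exists_elementary_eight (hp : p ≠ 2) {E Y : Subgroup G} {t : G}
    (hE : Cfsg.IsElementaryAbelian p E) (hY : IsPGroup 2 Y)
    (hEY : E ≤ Subgroup.normalizer (Y : Set G)) (ht : t * t = 1) (ht1 : t ≠ 1) (htY : t ∈ Y)
    (htE : ∀ e ∈ E, e * t = t * e) (htc : ∀ y ∈ Y, t * y = y * t)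
    (huniq : ∀ z ∈ Y, z * z = 1 → (∀ e ∈ E, e * z = z * e) → z = 1 ∨ z = t)
    (hfaith : ∀ K ≤ E, K.relIndex E ∣ p → ∃ k ∈ K, ∃ y ∈ Y, k * y ≠ y * k) :
    ∃ S ≤ Y, (IsMulCommutative S ∧ ∀ a ∈ S, a ^ 2 = 1) ∧ 8 ≤ Nat.card S ∧ t ∈ S := by
  by_contra hno
  have hno' : ∀ x y, x ∈ Y → y ∈ Y → x * x = 1 → y * y = 1 → x * y = y * x → ¬ (x = 1 ∨ x = t) →
      ¬ (y = 1 ∨ y = t ∨ y = x ∨ y = t * x) → False := fun x y hx hy hx2 hy2 hxy h1 h2 =>
    hno (exists_eight htY hx hy ht hx2 hy2 (htc x hx) (htc y hy) hxy ht1 h1 h2)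
  have := hE.1
  have hEc : ∀ a ∈ E, ∀ b ∈ E, a * b = b * a := fun a ha b hb =>
    congrArg Subtype.val (mul_comm' (⟨a, ha⟩ : E) ⟨b, hb⟩)
  -- the critical subgroup
  obtain ⟨C₀, hC₀⟩ := CfsgLib.PGroup.exists_criticalSubgroup (p := 2) hY
  set C := C₀.map Y.subtype with hC
  have hCY : C ≤ Y := Subgroup.map_subtype_le C₀
  have hcl : ∀ a ∈ C, ∀ b ∈ C, ∀ c ∈ C, Commute ⁅a, b⁆ c := by
    rintro _ ⟨a, ha, rfl⟩ _ ⟨b, hb, rfl⟩ _ ⟨c, hc, rfl⟩
    exact (congrArg (fun z : C₀ => ((z : Y) : G))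
      (Subgroup.mem_center_iff.mp (hC₀.class_two ⟨a, ha⟩ ⟨b, hb⟩) ⟨c, hc⟩)).symm
  have hsq : ∀ a ∈ C, ∀ c ∈ C, Commute (a * a) c := by
    rintro _ ⟨a, ha, rfl⟩ _ ⟨c, hc, rfl⟩
    have h := (congrArg (fun z : C₀ => ((z : Y) : G))
      (Subgroup.mem_center_iff.mp (hC₀.pow_mem_center ⟨a, ha⟩) ⟨c, hc⟩)).symm
    simpa [pow_two, commute_iff_eq] using h
  have hEC : ∀ a ∈ E, ∀ c ∈ C, a * c * a⁻¹ ∈ C := by
    rintro a ha _ ⟨c, hc, rfl⟩
    exact ⟨Y.normalizerMonoidHom ⟨a, hEY ha⟩ c,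
      Subgroup.characteristic_iff_le_comap.mp hC₀.characteristic _ hc, rfl⟩
  have hfaithC : ∀ K ≤ E, K.relIndex E ∣ p → ∃ k ∈ K, ∃ y ∈ C, k * y ≠ y * k := by
    intro K hK hr
    obtain ⟨k, hk, y, hy, hky⟩ := hfaith K hK hr
    by_contra hall
    push Not at hall
    have h1 : Y.normalizerMonoidHom ⟨k, hEY (hK hk)⟩ = 1 := by
      refine hC₀.aut_eq_one hY ?_ fun c hc => Subtype.ext ?_
      · refine Nat.Coprime.coprime_dvd_left ((orderOf_map_dvd _ _).trans ?_)
          (((Nat.coprime_primes (Fact.out : p.Prime) Nat.prime_two).mpr hp))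
        rw [Subgroup.orderOf_mk]
        exact orderOf_dvd_of_pow_eq_one (hE.2 k (hK hk))
      · show k * (c : G) * k⁻¹ = c
        rw [hall k hk (c : G) ⟨c, hc, rfl⟩, mul_inv_cancel_right]
    have h2 := congrArg Subtype.val (DFunLike.congr_fun h1 (⟨y, hy⟩ : Y))
    change k * y * k⁻¹ = y at h2
    exact hky (mul_inv_eq_iff_eq_mul.mp h2)
  -- central elements are fixed
  have hcentralSq : ∀ z ∈ C, z * z = 1 → (∀ c ∈ C, Commute z c) → z = 1 ∨ z = t := by
    intro z hz hz2 hzc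
    by_contra hne
    obtain ⟨a, ha, haz⟩ : ∃ a ∈ E, a * z ≠ z * a := by
      by_contra hall
      push Not at hall
      exact hne (huniq z (hCY hz) hz2 hall)
    have hz' := hEC a ha z hz
    refine hno' z (a * z * a⁻¹) (hCY hz) (hCY hz') hz2 ?_ (hzc _ hz').eq hne ?_
    · calc a * z * a⁻¹ * (a * z * a⁻¹) = a * (z * z) * a⁻¹ := by group
        _ = 1 := by rw [hz2]; group
    · rintro (h | h | h | h)
      · exact hne (Or.inl (conj_eq_one_iff.mp h))
      · refine hne (Or.inr ?_)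
        have e : a * z * a⁻¹ = a * t * a⁻¹ := by rw [h, htE a ha]; group
        exact mul_left_cancel (mul_right_cancel e)
      · exact haz (mul_inv_eq_iff_eq_mul.mp h)
      · exact conj_ne_mul hp (hE.2 a ha) ht ht1 (htE a ha) h
  have hcentral : ∀ z ∈ C, (∀ c ∈ C, Commute z c) → ∀ a ∈ E, a * z * a⁻¹ = z := by
    suffices h : ∀ k, ∀ z ∈ C, z ^ 2 ^ k = 1 → (∀ c ∈ C, Commute z c) → ∀ a ∈ E, a * z * a⁻¹ = z by
      intro z hz hzc
      obtain ⟨k, hk⟩ := hY ⟨z, hCY hz⟩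
      exact h k z hz (congrArg Subtype.val hk) hzc
    intro k
    induction k with
    | zero =>
      intro z _ hz _ a _
      rw [pow_zero, pow_one] at hz
      simp [hz]
    | succ k ih =>
      intro z hz hzk hzc a ha
      have hsqfix := ih (z * z) (mul_mem hz hz) (by rw [← pow_two, ← pow_mul, ← pow_succ', hzk])
        (fun c hc => (hzc c hc).mul_left (hzc c hc)) a ha
      have hzc' : ∀ c ∈ C, Commute (a * z * a⁻¹) c := by
        intro c hc
        have hc' : a⁻¹ * c * a ∈ C := by simpa using hEC a⁻¹ (inv_mem ha) c hc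
        have h := hzc _ hc'
        show a * z * a⁻¹ * c = c * (a * z * a⁻¹)
        calc a * z * a⁻¹ * c = a * (z * (a⁻¹ * c * a)) * a⁻¹ := by group
          _ = a * (a⁻¹ * c * a * z) * a⁻¹ := by rw [h.eq]
          _ = c * (a * z * a⁻¹) := by group
      have he : (a * z * a⁻¹ * z⁻¹) * (a * z * a⁻¹ * z⁻¹) = 1 := by
        have hcm : Commute z⁻¹ (a * z * a⁻¹) := (hzc _ (hEC a ha z hz)).inv_left
        calc a * z * a⁻¹ * z⁻¹ * (a * z * a⁻¹ * z⁻¹)
            = a * z * a⁻¹ * (z⁻¹ * (a * z * a⁻¹)) * z⁻¹ := by group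
          _ = a * z * a⁻¹ * ((a * z * a⁻¹) * z⁻¹) * z⁻¹ := by rw [hcm.eq]
          _ = (a * (z * z) * a⁻¹) * (z * z)⁻¹ := by group
          _ = 1 := by rw [hsqfix, mul_inv_cancel]
      rcases hcentralSq _ (mul_mem (hEC a ha z hz) (inv_mem hz)) he
          (fun c hc => (hzc' c hc).mul_left (hzc c hc).inv_left) with h | h
      · exact mul_inv_eq_one.mp h
      · exact absurd (mul_inv_eq_iff_eq_mul.mp h) (conj_ne_mul hp (hE.2 a ha) ht ht1 (htE a ha))
  have hcommC : ∀ a ∈ C, ∀ b ∈ C, ⁅a, b⁆ ∈ C := fun a ha b hb => by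
    rw [commutatorElement_def]
    exact mul_mem (mul_mem (mul_mem ha hb) (inv_mem ha)) (inv_mem hb)
  have hcommt : ∀ a ∈ C, ∀ b ∈ C, ⁅a, b⁆ = 1 ∨ ⁅a, b⁆ = t := by
    intro a ha b hb
    refine hcentralSq _ (hcommC a ha b hb) ?_ (hcl a ha b hb)
    have h1 : ⁅a, b⁆ * ⁅a, b⁆ = ⁅a * a, b⁆ := by
      rw [show ⁅a * a, b⁆ = a * ⁅a, b⁆ * a⁻¹ * ⁅a, b⁆ by simp only [commutatorElement_def]; group,
        ← (hcl a ha b hb a ha).eq, mul_inv_cancel_right]
    rw [h1, commutatorElement_eq_one_iff_commute]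
    exact hsq a ha b hb
  have hfixcomm : ∀ a ∈ E, ∀ u ∈ C, ∀ v ∈ C, ⁅a * u * a⁻¹, a * v * a⁻¹⁆ = ⁅u, v⁆ := by
    intro a ha u hu v hv
    rw [show ⁅a * u * a⁻¹, a * v * a⁻¹⁆ = a * ⁅u, v⁆ * a⁻¹ by simp only [commutatorElement_def]; group]
    rcases hcommt u hu v hv with h | h <;> rw [h]
    · group
    · rw [htE a ha]; group
  -- hyperplanes
  let T : Subgroup G → Subgroup G := fun H => C ⊓ Subgroup.centralizer (H : Set G)
  have hTmem : ∀ {H : Subgroup G} {x : G}, x ∈ T H ↔ x ∈ C ∧ ∀ h ∈ H, h * x = x * h := fun {H x} =>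
    ⟨fun h => ⟨h.1, Subgroup.mem_centralizer_iff.mp h.2⟩,
      fun h => ⟨h.1, Subgroup.mem_centralizer_iff.mpr h.2⟩⟩
  have hTconj : ∀ H ≤ E, ∀ a ∈ E, ∀ c ∈ T H, a * c * a⁻¹ ∈ T H := by
    intro H hH a ha c hc
    rw [hTmem] at hc ⊢
    refine ⟨hEC a ha c hc.1, fun h hh => ?_⟩
    calc h * (a * c * a⁻¹) = (h * a) * c * a⁻¹ := by group
      _ = a * (h * c) * a⁻¹ := by rw [hEc h (hH hh) a ha]; group
      _ = a * c * (h * a⁻¹) := by rw [hc.2 h hh]; group
      _ = a * c * (a⁻¹ * h) := by rw [hEc h (hH hh) a⁻¹ (inv_mem ha)]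
      _ = a * c * a⁻¹ * h := by group
  have hgen : ∀ X : Subgroup G, (∀ H ≤ E, H.relIndex E ∣ p → T H ≤ X) → C ≤ X := by
    intro X hX
    have hCp : ¬ p ∣ Nat.card C := by
      intro hd
      obtain ⟨k, hk⟩ := IsPGroup.iff_card.mp (hY.to_le hCY)
      exact hp ((Nat.prime_dvd_prime_iff_eq Fact.out Nat.prime_two).mp
        ((Fact.out : p.Prime).dvd_of_dvd_pow (hk ▸ hd)))
    refine (CfsgLib.Hyperplane.le_iSup_centralizer hE hCp
      (CfsgLib.Hyperplane.le_normalizer_of_conj_mem hEC)).trans (iSup_le ?_)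
    rintro ⟨H, hH, hr⟩
    exact hX H hH hr
  have hortho : ∀ H ≤ E, H.relIndex E ∣ p → ∀ K ≤ E, ¬ K ≤ H → ∀ c ∈ T H, ∀ a ∈ E, ∀ y ∈ T K,
      Commute y (c⁻¹ * (a * c * a⁻¹)) := by
    intro H hH hr K hK hne c hc a ha y hy
    apply commute_of_same_commutator
    have ha' : a ∈ H ⊔ K := (sup_eq_of_not_le hH hK hr hne).symm ▸ ha
    have hn : K ≤ Subgroup.normalizer (H : Set G) :=
      CfsgLib.Hyperplane.le_normalizer_of_conj_mem fun k hk h hh => by
        rwa [hEc k (hK hk) h (hH hh), mul_inv_cancel_right]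
    rw [← SetLike.mem_coe, Subgroup.coe_mul_of_right_le_normalizer_left H K hn] at ha'
    obtain ⟨h, hh, k, hk, hkh⟩ := Set.mem_mul.mp ha'
    have hak : a = k * h := by rw [← hkh, hEc h (hH hh) k (hK hk)]
    have e1 : a * c * a⁻¹ = k * c * k⁻¹ := by
      rw [hak]
      calc k * h * c * (k * h)⁻¹ = k * (h * c) * h⁻¹ * k⁻¹ := by group
        _ = k * c * k⁻¹ := by rw [((hTmem.mp hc).2 h hh)]; group
    have e2 : k * y * k⁻¹ = y := by rw [(hTmem.mp hy).2 k hk, mul_inv_cancel_right]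
    rw [e1]
    nth_rewrite 2 [← e2]
    exact (hfixcomm k (hK hk) y (hTmem.mp hy).1 c (hTmem.mp hc).1).symm
  -- hyperplanes acting non-trivially
  let Rel : Subgroup G → Prop := fun H => H ≤ E ∧ H.relIndex E ∣ p ∧
    ∃ c ∈ T H, ∃ a ∈ E, a * c ≠ c * a
  have hrel_not_le : ∀ H K, Rel H → Rel K → H ≠ K → ¬ K ≤ H := by
    rintro H K ⟨hH, hrH, c, hc, a, ha, hac⟩ ⟨hK, hrK, -⟩ hne hKH
    have h := Subgroup.relIndex_mul_relIndex K H E hKH hH
    have hd : K.relIndex H ∣ p := (Dvd.intro _ h).trans hrK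
    rcases (Fact.out : p.Prime).eq_one_or_self_of_dvd _ hd with h1 | h1
    · exact hne (le_antisymm (Subgroup.relIndex_eq_one.mp h1) hKH)
    · rw [h1] at h
      have h2 : p * H.relIndex E ∣ p * 1 := by rw [h, mul_one]; exact hrK
      have := Nat.eq_one_of_dvd_one (Nat.dvd_of_mul_dvd_mul_left (Fact.out : p.Prime).pos h2)
      exact hac ((hTmem.mp hc).2 a (Subgroup.relIndex_eq_one.mp this ha))
  have hpair : ∀ H, Rel H → ∃ x ∈ T H, ∃ y ∈ T H, ⁅x, y⁆ = t ∧ (x * x = 1 ∨ x * x = t) ∧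
      (y * y = 1 ∨ y * y = t) ∧ ∀ K, Rel K → K ≠ H → ∀ w ∈ T K, Commute w x ∧ Commute w y := by
    rintro H ⟨hH, hr, c, hc, a, ha, hac⟩
    have hR : Rel H := ⟨hH, hr, c, hc, a, ha, hac⟩
    have hcC := (hTmem.mp hc).1
    have hDmem : ∀ c ∈ T H, ∀ a ∈ E, c⁻¹ * (a * c * a⁻¹) ∈ T H := fun c hc a ha =>
      mul_mem (inv_mem hc) (hTconj H hH a ha c hc)
    have hDsq : ∀ c ∈ T H, ∀ a ∈ E, (c⁻¹ * (a * c * a⁻¹)) * (c⁻¹ * (a * c * a⁻¹)) = 1 ∨
        (c⁻¹ * (a * c * a⁻¹)) * (c⁻¹ * (a * c * a⁻¹)) = t := by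
      intro c hc a ha
      have hcC := (hTmem.mp hc).1
      have hc'C := hEC a ha c hcC
      set c' := a * c * a⁻¹ with hc'
      have hsq' : c' * c' = c * c := by
        rw [show c' * c' = a * (c * c) * a⁻¹ by rw [hc']; group]
        exact hcentral _ (mul_mem hcC hcC) (fun d hd => hsq c hcC d hd) a ha
      have e := hcl c' hc'C c⁻¹ (inv_mem hcC) c⁻¹ (inv_mem hcC)
      have h1 : c⁻¹ * c' * (c⁻¹ * c') = ⁅c', c⁻¹⁆ := by
        calc c⁻¹ * c' * (c⁻¹ * c') = c⁻¹ * (c' * c⁻¹ * c'⁻¹ * c⁻¹⁻¹) * c⁻¹ * (c' * c') := by group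
          _ = c⁻¹ * ⁅c', c⁻¹⁆ * c⁻¹ * (c' * c') := by rw [commutatorElement_def]
          _ = ⁅c', c⁻¹⁆ * c⁻¹ * c⁻¹ * (c * c) := by rw [← e.eq, hsq']
          _ = ⁅c', c⁻¹⁆ := by group
      rw [h1]
      exact hcommt c' hc'C c⁻¹ (inv_mem hcC)
    by_contra hno2
    have hDcomm : ∀ c₁ ∈ T H, ∀ a₁ ∈ E, ∀ c₂ ∈ T H, ∀ a₂ ∈ E,
        Commute (c₁⁻¹ * (a₁ * c₁ * a₁⁻¹)) (c₂⁻¹ * (a₂ * c₂ * a₂⁻¹)) := by
      intro c₁ hc₁ a₁ ha₁ c₂ hc₂ a₂ ha₂
      rcases hcommt _ (hTmem.mp (hDmem c₁ hc₁ a₁ ha₁)).1 _ (hTmem.mp (hDmem c₂ hc₂ a₂ ha₂)).1 with h | h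
      · exact commutatorElement_eq_one_iff_commute.mp h
      · exact absurd ⟨_, hDmem c₁ hc₁ a₁ ha₁, _, hDmem c₂ hc₂ a₂ ha₂, h, hDsq c₁ hc₁ a₁ ha₁,
          hDsq c₂ hc₂ a₂ ha₂, fun K hK hne w hw =>
          ⟨hortho H hH hr K hK.1 (hrel_not_le H K hR hK hne.symm) c₁ hc₁ a₁ ha₁ w hw,
            hortho H hH hr K hK.1 (hrel_not_le H K hR hK hne.symm) c₂ hc₂ a₂ ha₂ w hw⟩⟩ hno2
    set x := c⁻¹ * (a * c * a⁻¹) with hx
    have hxT := hDmem c hc a ha
    have hxfix : ∀ b ∈ E, b * x * b⁻¹ = x := by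
      intro b hb
      set x' := b * x * b⁻¹ with hx'
      have hx'C : x' ∈ C := hEC b hb x (hTmem.mp hxT).1
      have hx'D : x' = (b * c * b⁻¹)⁻¹ * (a * (b * c * b⁻¹) * a⁻¹) := by
        rw [hx', hx, show a * (b * c * b⁻¹) * a⁻¹ = (a * b) * c * (a * b)⁻¹ by group, hEc a ha b hb]
        group
      have hz : ∀ d ∈ C, Commute (x⁻¹ * x') d := by
        intro d hd
        refine (Subgroup.mem_centralizer_singleton_iff.mp (hgen (Subgroup.centralizer {x⁻¹ * x'}) ?_ hd)).symm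
        intro K hK hrK e he
        refine Subgroup.mem_centralizer_singleton_iff.mpr ?_
        by_cases hle : K ≤ H
        swap
        · have h1 : Commute e x := hortho H hH hr K hK hle c hc a ha e he
          have h2 : Commute e x' := by
            rw [hx'D]
            exact hortho H hH hr K hK hle _ (hTconj H hH b hb c hc) a ha e he
          exact (h1.inv_right.mul_right h2).eq
        by_cases heq : K = H
        · subst heq
          have heC := (hTmem.mp he).1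
          set e' := b⁻¹ * e * b with he'
          have he'T : e' ∈ T K := by simpa using hTconj K hK b⁻¹ (inv_mem hb) e he
          have hδ : Commute x (e⁻¹ * e') := by
            have := hDcomm c hc a ha e he b⁻¹ (inv_mem hb)
            simpa [he'] using this
          have h1 : ⁅x, e'⁆ = ⁅x, e⁆ := by
            calc ⁅x, e'⁆ = x * e * (e⁻¹ * e') * x⁻¹ * e'⁻¹ := by rw [commutatorElement_def]; group
              _ = x * e * ((e⁻¹ * e') * x⁻¹) * e'⁻¹ := by group
              _ = x * e * (x⁻¹ * (e⁻¹ * e')) * e'⁻¹ := by rw [hδ.inv_left.eq]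
              _ = ⁅x, e⁆ := by rw [commutatorElement_def]; group
          have h2 : ⁅x', e⁆ = ⁅x, e⁆ := by
            rw [← h1, ← hfixcomm b hb x (hTmem.mp hxT).1 e' (hTmem.mp he'T).1,
              show b * e' * b⁻¹ = e by rw [he']; group]
          rw [commutatorElement_def, commutatorElement_def] at h2
          calc e * (x⁻¹ * x') = x⁻¹ * (x * e * x⁻¹ * e⁻¹) * (e * x') := by group
            _ = x⁻¹ * (x' * e * x'⁻¹ * e⁻¹) * (e * x') := by rw [h2]
            _ = x⁻¹ * x' * e := by group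
        · -- then `H = E`, impossible
          exfalso
          have h := Subgroup.relIndex_mul_relIndex K H E hle hH
          have hd : K.relIndex H ∣ p := (Dvd.intro _ h).trans hrK
          rcases (Fact.out : p.Prime).eq_one_or_self_of_dvd _ hd with h1 | h1
          · exact heq (le_antisymm hle (Subgroup.relIndex_eq_one.mp h1))
          · rw [h1] at h
            have h2 : p * H.relIndex E ∣ p * 1 := by rw [h, mul_one]; exact hrK
            have := Nat.eq_one_of_dvd_one (Nat.dvd_of_mul_dvd_mul_left (Fact.out : p.Prime).pos h2)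
            exact hac ((hTmem.mp hc).2 a (Subgroup.relIndex_eq_one.mp this ha))
      have hzC : x⁻¹ * x' ∈ C := mul_mem (inv_mem (hTmem.mp hxT).1) hx'C
      have hzfix := hcentral _ hzC hz b hb
      have hn : ∀ n : ℕ, b ^ n * x * (b ^ n)⁻¹ = x * (x⁻¹ * x') ^ n := by
        intro n
        induction n with
        | zero => simp
        | succ n ih =>
          calc b ^ (n + 1) * x * (b ^ (n + 1))⁻¹ = b * (b ^ n * x * (b ^ n)⁻¹) * b⁻¹ := by
                rw [pow_succ']; group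
            _ = (b * x * b⁻¹) * (b * (x⁻¹ * x') ^ n * b⁻¹) := by rw [ih]; group
            _ = x' * (x⁻¹ * x') ^ n := by rw [← conj_pow, hzfix, hx']
            _ = x * (x⁻¹ * x') ^ (n + 1) := by rw [pow_succ']; generalize (x⁻¹ * x') ^ n = w; group
      have hp' := hn p
      rw [hE.2 b hb, one_mul, inv_one, mul_one, left_eq_mul] at hp'
      obtain ⟨k, hk⟩ := hY ⟨_, hCY hzC⟩
      have hk' : (x⁻¹ * x') ^ 2 ^ k = 1 := congrArg Subtype.val hk
      have h1 := Nat.eq_one_of_dvd_coprimes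
        (((Nat.coprime_primes (Fact.out : p.Prime) Nat.prime_two).mpr hp).pow_right k)
        (orderOf_dvd_of_pow_eq_one hp') (orderOf_dvd_of_pow_eq_one hk')
      exact (inv_mul_eq_one.mp (orderOf_eq_one_iff.mp h1)).symm
    have hn : ∀ n : ℕ, a ^ n * c * (a ^ n)⁻¹ = c * x ^ n := by
      intro n
      induction n with
      | zero => simp
      | succ n ih =>
        calc a ^ (n + 1) * c * (a ^ (n + 1))⁻¹ = a * (a ^ n * c * (a ^ n)⁻¹) * a⁻¹ := by
              rw [pow_succ']; group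
          _ = (a * c * a⁻¹) * (a * x ^ n * a⁻¹) := by rw [ih]; group
          _ = c * x * x ^ n := by rw [← conj_pow, hxfix a ha, hx]; group
          _ = c * x ^ (n + 1) := by rw [pow_succ']; group
    have hp' := hn p
    rw [hE.2 a ha, one_mul, inv_one, mul_one, left_eq_mul] at hp'
    obtain ⟨k, hk⟩ := hY ⟨_, hCY (hTmem.mp hxT).1⟩
    have hk' : x ^ 2 ^ k = 1 := congrArg Subtype.val hk
    have h1 := Nat.eq_one_of_dvd_coprimes
      (((Nat.coprime_primes (Fact.out : p.Prime) Nat.prime_two).mpr hp).pow_right k)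
      (orderOf_dvd_of_pow_eq_one hp') (orderOf_dvd_of_pow_eq_one hk')
    rw [orderOf_eq_one_iff, hx, inv_mul_eq_one] at h1
    exact hac (mul_inv_eq_iff_eq_mul.mp h1.symm)
  have hother : ∀ K ≤ E, K.relIndex E ∣ p → ∃ H, Rel H ∧ H ≠ K := by
    intro K hK hrK
    by_contra hall
    push Not at hall
    obtain ⟨k, hk, y, hy, hky⟩ := hfaithC K hK hrK
    refine hky (Subgroup.mem_centralizer_singleton_iff.mp
      (hgen (Subgroup.centralizer {k}) (fun H hH hr c hc => ?_) hy)).symm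
    refine Subgroup.mem_centralizer_singleton_iff.mpr ?_
    by_cases hHK : H = K
    · subst hHK
      exact ((hTmem.mp hc).2 k hk).symm
    · by_contra hne
      exact hHK (hall H ⟨hH, hr, c, hc, k, hK hk, fun e => hne e.symm⟩)
  -- the elements of square `t`
  have hroot : ∀ H, Rel H → ∃ q ∈ T H, q * q = t ∧ (∀ K, Rel K → K ≠ H → ∀ w ∈ T K, Commute w q) ∧
      ∀ K, Rel K → K ≠ H → q ∉ T K := by
    intro H hR
    obtain ⟨x, hx, y, hy, hxy, hx2, hy2, hco⟩ := hpair H hR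
    have hyx : y * x = t * (x * y) := by
      have h : x * y * x⁻¹ * y⁻¹ = t := by rwa [← commutatorElement_def]
      calc y * x = (x * y * x⁻¹ * y⁻¹)⁻¹ * (x * y) := by group
        _ = t * (x * y) := by rw [h, invol_inv ht]
    have hxyt : x * y = t * (y * x) := by rw [hyx, ← mul_assoc, ht, one_mul]
    have hnot : ∀ q ∈ T H, ¬ (Commute q x ∧ Commute q y) → ∀ K, Rel K → K ≠ H → q ∉ T K :=
      fun q _ h K hK hne hq => h (hco K hK hne q hq)
    have hne : x * y ≠ y * x := fun h => ht1 (by rw [hxyt] at h; exact mul_eq_right.mp h)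
    rcases hx2 with hx2 | hx2
    swap
    · exact ⟨x, hx, hx2, fun K hK hne' w hw => (hco K hK hne' w hw).1,
        hnot x hx fun h => hne h.2.eq⟩
    rcases hy2 with hy2 | hy2
    swap
    · exact ⟨y, hy, hy2, fun K hK hne' w hw => (hco K hK hne' w hw).2,
        hnot y hy fun h => hne h.1.eq.symm⟩
    refine ⟨x * y, mul_mem hx hy, ?_, fun K hK hne' w hw =>
      (hco K hK hne' w hw).1.mul_right (hco K hK hne' w hw).2, hnot _ (mul_mem hx hy) fun h => hne ?_⟩
    · calc x * y * (x * y) = x * (y * x) * y := by group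
        _ = x * (t * (x * y)) * y := by rw [hyx]
        _ = (x * t) * x * (y * y) := by group
        _ = t * (x * x) * (y * y) := by rw [← htc x (hCY (hTmem.mp hx).1)]; group
        _ = t := by rw [hx2, hy2, mul_one, mul_one]
    · have h1 := h.1.eq
      rw [mul_assoc] at h1
      exact (mul_left_cancel h1).symm
  have htC : t ∈ C := by
    obtain ⟨H, hR, -⟩ := hother E le_rfl (by simp)
    obtain ⟨q, hq, hq2, -⟩ := hroot H hR
    exact hq2 ▸ mul_mem (hTmem.mp hq).1 (hTmem.mp hq).1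
  by_cases hinv : ∃ H, Rel H ∧ ∃ x ∈ T H, x * x = 1 ∧ ¬ (x = 1 ∨ x = t)
  · obtain ⟨H, hR, x, hx, hx2, hxne⟩ := hinv
    obtain ⟨H', hR', hne⟩ := hother H hR.1 hR.2.1
    have hxC := (hTmem.mp hx).1
    obtain ⟨a, ha, hax⟩ : ∃ a ∈ E, a * x ≠ x * a := by
      by_contra hall
      push Not at hall
      exact hxne (huniq x (hCY hxC) hx2 hall)
    have hout : ∀ b ∈ E, b * x ≠ x * b →
        ¬ (b * x * b⁻¹ = 1 ∨ b * x * b⁻¹ = t ∨ b * x * b⁻¹ = x ∨ b * x * b⁻¹ = t * x) := by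
      intro b hb hbx
      rintro (h | h | h | h)
      · exact hxne (Or.inl (conj_eq_one_iff.mp h))
      · refine hxne (Or.inr ?_)
        have e : b * x * b⁻¹ = b * t * b⁻¹ := by rw [h, htE b hb]; group
        exact mul_left_cancel (mul_right_cancel e)
      · exact hbx (mul_inv_eq_iff_eq_mul.mp h)
      · exact conj_ne_mul hp (hE.2 b hb) ht ht1 (htE b hb) h
    have hinvconj : ∀ b : G, b * x * b⁻¹ * (b * x * b⁻¹) = 1 := fun b => by
      calc b * x * b⁻¹ * (b * x * b⁻¹) = b * (x * x) * b⁻¹ := by group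
        _ = 1 := by rw [hx2]; group
    have haa : a * a * x ≠ x * (a * a) := fun h => hax (commute_of_commute_sq hp (hE.2 a ha) h)
    set u := a * x * a⁻¹ with hu
    set v := a * a * x * (a * a)⁻¹ with hv
    have huC : u ∈ C := hEC a ha x hxC
    have hvC : v ∈ C := hEC _ (mul_mem ha ha) x hxC
    rcases hcommt x hxC u huC with h1 | h1
    · exact hno' x u (hCY hxC) (hCY huC) hx2 (hinvconj a) (commutatorElement_eq_one_iff_commute.mp h1).eq
        hxne (hout a ha hax)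
    rcases hcommt x hxC v hvC with h2 | h2
    · exact hno' x v (hCY hxC) (hCY hvC) hx2 (hinvconj _) (commutatorElement_eq_one_iff_commute.mp h2).eq
        hxne (hout _ (mul_mem ha ha) haa)
    obtain ⟨q, hq, hq2, hqco, hqnot⟩ := hroot H' hR'
    have hqH : ∀ w ∈ T H, Commute w q := fun w hw => hqco H hR hne.symm w hw
    have huT : u ∈ T H := hTconj H hR.1 a ha x hx
    have hvT : v ∈ T H := hTconj H hR.1 _ (mul_mem ha ha) x hx
    have huv : ⁅u, v⁆ = t := by
      have h := hfixcomm a ha x hxC u huC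
      rw [h1, show a * u * a⁻¹ = v by rw [hu, hv]; group, ← hu] at h
      exact h
    have hu2 : u * u = 1 := hinvconj a
    have hv2 : v * v = 1 := hinvconj _
    have hw2 : u * v * (u * v) = t := by
      rw [← huv, commutatorElement_def, invol_inv hu2, invol_inv hv2]
      group
    have hxw : Commute x (u * v) := by
      apply commutatorElement_eq_one_iff_commute.mp
      rw [show ⁅x, u * v⁆ = ⁅x, u⁆ * (u * ⁅x, v⁆ * u⁻¹) by simp only [commutatorElement_def]; group,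
        h1, h2, ← htc u (hCY huC), mul_inv_cancel_right, ht]
    refine hno' x (u * v * q) (hCY hxC) (hCY (mul_mem (mul_mem huC hvC) (hTmem.mp hq).1)) hx2 ?_
      (hxw.mul_right (hqH x hx)).eq hxne ?_
    · calc u * v * q * (u * v * q) = u * v * (q * (u * v)) * q := by group
        _ = u * v * ((u * v) * q) * q := by rw [((hqH u huT).mul_left (hqH v hvT)).eq]
        _ = (u * v * (u * v)) * (q * q) := by group
        _ = 1 := by rw [hw2, hq2, ht]
    · intro h
      refine hqnot H hR hne.symm ?_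
      have htT : t ∈ T H := hTmem.mpr ⟨htC, fun k hk => htE k (hR.1 hk)⟩
      have hmem : u * v * q ∈ T H := by
        rcases h with h | h | h | h <;> rw [h]
        · exact one_mem _
        · exact htT
        · exact hx
        · exact mul_mem htT hx
      have h3 := mul_mem (inv_mem (mul_mem huT hvT)) hmem
      rwa [inv_mul_cancel_left] at h3
  · push Not at hinv
    obtain ⟨H₁, hR₁, -⟩ := hother E le_rfl (by simp)
    obtain ⟨H₂, hR₂, hne⟩ := hother H₁ hR₁.1 hR₁.2.1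
    obtain ⟨x₁, hx₁, y₁, hy₁, hc₁, hx₁2, hy₁2, hco₁⟩ := hpair H₁ hR₁
    obtain ⟨x₂, hx₂, y₂, hy₂, hc₂, hx₂2, hy₂2, hco₂⟩ := hpair H₂ hR₂
    have key : ∀ H, Rel H → ∀ x ∈ T H, ∀ y ∈ T H, ⁅x, y⁆ = t → x * x = 1 ∨ x * x = t → x * x = t := by
      intro H hR x hx y hy hc h
      refine h.resolve_left fun h1 => ?_
      rcases hinv H hR x hx h1 with rfl | rfl
      · exact ht1 (by rw [← hc]; simp)
      · exact ht1 (by rw [← hc]; exact commutatorElement_eq_one_iff_commute.mpr (htc y (hCY (hTmem.mp hy).1)))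
    have hsw : ∀ x y : G, ⁅x, y⁆ = t → ⁅y, x⁆ = t := fun x y h => by
      rw [← commutatorElement_inv, h, invol_inv ht]
    have sx₁ := key H₁ hR₁ x₁ hx₁ y₁ hy₁ hc₁ hx₁2
    have sy₁ := key H₁ hR₁ y₁ hy₁ x₁ hx₁ (hsw _ _ hc₁) hy₁2
    have sx₂ := key H₂ hR₂ x₂ hx₂ y₂ hy₂ hc₂ hx₂2
    have sy₂ := key H₂ hR₂ y₂ hy₂ x₂ hx₂ (hsw _ _ hc₂) hy₂2
    have c12 : ∀ u ∈ T H₁, Commute u x₂ ∧ Commute u y₂ := fun u hu => hco₂ H₁ hR₁ hne.symm u hu
    have hsq12 : ∀ u ∈ T H₁, ∀ v, Commute u v → u * u = t → v * v = t → (u * v) * (u * v) = 1 := by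
      intro u _ v h h1 h2
      calc u * v * (u * v) = u * (v * u) * v := by group
        _ = u * (u * v) * v := by rw [h.eq]
        _ = (u * u) * (v * v) := by group
        _ = 1 := by rw [h1, h2, ht]
    have hx₁C := (hTmem.mp hx₁).1
    have hy₁C := (hTmem.mp hy₁).1
    have hx₂C := (hTmem.mp hx₂).1
    have hy₂C := (hTmem.mp hy₂).1
    have hAB : Commute (x₁ * x₂) (y₁ * y₂) := by
      have e1 : y₁ * x₁ = t * (x₁ * y₁) := by
        calc y₁ * x₁ = (x₁ * y₁ * x₁⁻¹ * y₁⁻¹)⁻¹ * (x₁ * y₁) := by group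
          _ = t * (x₁ * y₁) := by rw [← commutatorElement_def, hc₁, invol_inv ht]
      have e2 : y₂ * x₂ = t * (x₂ * y₂) := by
        calc y₂ * x₂ = (x₂ * y₂ * x₂⁻¹ * y₂⁻¹)⁻¹ * (x₂ * y₂) := by group
          _ = t * (x₂ * y₂) := by rw [← commutatorElement_def, hc₂, invol_inv ht]
      show x₁ * x₂ * (y₁ * y₂) = y₁ * y₂ * (x₁ * x₂)
      symm
      calc y₁ * y₂ * (x₁ * x₂) = y₁ * (y₂ * x₁) * x₂ := by group
        _ = y₁ * (x₁ * y₂) * x₂ := by rw [(c12 x₁ hx₁).2.eq]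
        _ = (y₁ * x₁) * (y₂ * x₂) := by group
        _ = t * (x₁ * y₁) * (t * (x₂ * y₂)) := by rw [e1, e2]
        _ = t * ((x₁ * y₁) * t) * (x₂ * y₂) := by group
        _ = t * (t * (x₁ * y₁)) * (x₂ * y₂) := by rw [← htc _ (hCY (mul_mem hx₁C hy₁C))]
        _ = (t * t) * (x₁ * (y₁ * x₂) * y₂) := by group
        _ = x₁ * (y₁ * x₂) * y₂ := by rw [ht, one_mul]
        _ = x₁ * (x₂ * y₁) * y₂ := by rw [(c12 y₁ hy₁).1.eq]
        _ = x₁ * x₂ * (y₁ * y₂) := by group
    have hA1 : ∀ z, Commute y₂ z → x₁ * x₂ ≠ z := by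
      intro z hz h
      have h' : Commute y₂ (x₁⁻¹ * (x₁ * x₂)) := (c12 x₁ hx₁).2.symm.inv_right.mul_right (h ▸ hz)
      rw [inv_mul_cancel_left] at h'
      exact ht1 (by rw [← hc₂]; exact commutatorElement_eq_one_iff_commute.mpr h'.symm)
    refine hno' (x₁ * x₂) (y₁ * y₂) (hCY (mul_mem hx₁C hx₂C)) (hCY (mul_mem hy₁C hy₂C))
      (hsq12 x₁ hx₁ x₂ (c12 x₁ hx₁).1 sx₁ sx₂) (hsq12 y₁ hy₁ y₂ (c12 y₁ hy₁).2 sy₁ sy₂) hAB.eq ?_ ?_
    · rintro (h | h)
      · exact hA1 1 (Commute.one_right _) h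
      · exact hA1 t (htc _ (hCY hy₂C)).symm h
    · intro h
      have hx₁A : Commute x₁ (x₁ * x₂) := (Commute.refl x₁).mul_right (c12 x₁ hx₁).1
      have hB : Commute x₁ (y₁ * y₂) := by
        rcases h with h | h | h | h <;> rw [h]
        · exact Commute.one_right _
        · exact (htc _ (hCY hx₁C)).symm
        · exact hx₁A
        · exact Commute.mul_right (htc _ (hCY hx₁C)).symm hx₁A
      have h' : Commute x₁ (y₁ * y₂ * y₂⁻¹) := hB.mul_right (c12 x₁ hx₁).2.inv_right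
      rw [mul_inv_cancel_right] at h'
      exact ht1 (by rw [← hc₁]; exact commutatorElement_eq_one_iff_commute.mpr h')

end CfsgLib.PTwoType
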